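import Cfsg.Agent.Lib.H9.HN.TCPA.Chk
set_option Elab.async false
set_option autoImplicit false
set_option maxRecDepth 100000
set_option linter.all false
namespace H9.HN.TCPA
open H35.TC
theorem r_16 : allB chkP 10 16384 = true := by decide +kernel
theorem r_17 : allB chkP 10 17408 = true := by decide +kernel
theorem blk_2 : ∀ u, 16384 ≤ u → u < 18432 → chkP u = true := by
  intro u h0 hu
  rcases Nat.lt_or_ge u 17408 with h | h
  · exact allB_spec _ _ _ r_16 u (by omega) (by omega)
  clear h0
  rename' h => h0
  rcases Nat.lt_or_ge u 18432 with h | h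
  · exact allB_spec _ _ _ r_17 u (by omega) (by omega)
  clear h0
  rename' h => h0
  omega
end H9.HN.TCPA
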