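import Cfsg.Agent.Lib.H9.HN.TCPA.Chk
set_option autoImplicit false
set_option maxRecDepth 100000
set_option linter.all false
namespace H9.HN.TCPA
open H35.TC
section
variable {G : Type} [Group G] {g : Lt → G} {H : Subgroup G}
/-- the points of the nodes -/
noncomputable def cP (g : Lt → G) (H : Subgroup G) : ℕ → G ⧸ H := cc (fa g) lt P ((1 : G) : G ⧸ H)
theorem dp_x_0_s (hinv : ∀ x, g (inv x) = (g x)⁻¹) (hr : ∀ r ∈ rels, (r.map g).prod = 1) (hH : ∀ r ∈ subs, (r.map g).prod ∈ H)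
    (j u : ℕ) (hu : u < M) (h : dp_x_0 j u = true) : Good (fa g) T MG M (cP g H) Lt.x u := by
  unfold dp_x_0 at h
  rcases brec_true h with h | h
  · exact lF_good (T := T) (x := Lt.x) (by decide) [Lt.y, Lt.y, Lt.y, Lt.xi, Lt.y, Lt.y, Lt.x, Lt.y, Lt.y, Lt.y, Lt.xi, Lt.y, Lt.y, Lt.x, Lt.y, Lt.y, Lt.y, Lt.xi, Lt.y, Lt.y] (hole_rel hinv hr (by decide +kernel)) h
  · exact lF_good (T := T) (x := Lt.x) (by decide) [Lt.yi, Lt.xi, Lt.y, Lt.x, Lt.yi, Lt.xi, Lt.y, Lt.x, Lt.yi, Lt.xi, Lt.y] (hole_rel hinv hr (by decide +kernel)) h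
theorem dp_x_1_s (hinv : ∀ x, g (inv x) = (g x)⁻¹) (hr : ∀ r ∈ rels, (r.map g).prod = 1) (hH : ∀ r ∈ subs, (r.map g).prod ∈ H)
    (j u : ℕ) (hu : u < M) (h : dp_x_1 j u = true) : Good (fa g) T MG M (cP g H) Lt.x u := by
  unfold dp_x_1 at h
  rcases brec_true h with h | h
  · exact lF_good (T := T) (x := Lt.x) (by decide) [Lt.x, Lt.y, Lt.x, Lt.x, Lt.yi] (hole_rel hinv hr (by decide +kernel)) h
  · exact dp_x_0_s hinv hr hH j u hu h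
theorem dp_x_2_s (hinv : ∀ x, g (inv x) = (g x)⁻¹) (hr : ∀ r ∈ rels, (r.map g).prod = 1) (hH : ∀ r ∈ subs, (r.map g).prod ∈ H)
    (j u : ℕ) (hu : u < M) (h : dp_x_2 j u = true) : Good (fa g) T MG M (cP g H) Lt.x u := by
  unfold dp_x_2 at h
  rcases brec_true h with h | h
  · exact lS_good (T := T) (x := Lt.x) (by decide) hu [Lt.y, Lt.y, Lt.y, Lt.x, Lt.y, Lt.x, Lt.y, Lt.y, Lt.y, Lt.x, Lt.y, Lt.x, Lt.y, Lt.y, Lt.y, Lt.x, Lt.y, Lt.x, Lt.y, Lt.y, Lt.y, Lt.x, Lt.y] (hole_rel hinv hr (by decide +kernel)) h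
  · exact lF_good (T := T) (x := Lt.x) (by decide) [Lt.yi, Lt.yi, Lt.yi, Lt.xi, Lt.yi, Lt.yi, Lt.x, Lt.yi, Lt.yi, Lt.yi, Lt.xi, Lt.yi, Lt.yi, Lt.x, Lt.yi, Lt.yi, Lt.yi, Lt.xi, Lt.yi, Lt.yi] (hole_rel hinv hr (by decide +kernel)) h
theorem dp_x_3_s (hinv : ∀ x, g (inv x) = (g x)⁻¹) (hr : ∀ r ∈ rels, (r.map g).prod = 1) (hH : ∀ r ∈ subs, (r.map g).prod ∈ H)
    (j u : ℕ) (hu : u < M) (h : dp_x_3 j u = true) : Good (fa g) T MG M (cP g H) Lt.x u := by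
  unfold dp_x_3 at h
  rcases brec_true h with h | h
  · exact lS_good (T := T) (x := Lt.x) (by decide) hu [Lt.y, Lt.y, Lt.y, Lt.xi, Lt.y, Lt.y, Lt.x, Lt.y, Lt.y, Lt.y, Lt.xi, Lt.y, Lt.y, Lt.x, Lt.y, Lt.y, Lt.y, Lt.xi, Lt.y, Lt.y] (hole_rel hinv hr (by decide +kernel)) h
  · exact dp_x_2_s hinv hr hH j u hu h
theorem dp_x_4_s (hinv : ∀ x, g (inv x) = (g x)⁻¹) (hr : ∀ r ∈ rels, (r.map g).prod = 1) (hH : ∀ r ∈ subs, (r.map g).prod ∈ H)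
    (j u : ℕ) (hu : u < M) (h : dp_x_4 j u = true) : Good (fa g) T MG M (cP g H) Lt.x u := by
  unfold dp_x_4 at h
  rcases brec_true h with h | h
  · exact lS_good (T := T) (x := Lt.x) (by decide) hu [Lt.yi, Lt.xi, Lt.y, Lt.x, Lt.yi, Lt.xi, Lt.y, Lt.x, Lt.yi, Lt.xi, Lt.y] (hole_rel hinv hr (by decide +kernel)) h
  · exact lS_good (T := T) (x := Lt.x) (by decide) hu [Lt.yi, Lt.yi, Lt.yi, Lt.xi, Lt.yi, Lt.yi, Lt.x, Lt.yi, Lt.yi, Lt.yi, Lt.xi, Lt.yi, Lt.yi, Lt.x, Lt.yi, Lt.yi, Lt.yi, Lt.xi, Lt.yi, Lt.yi] (hole_rel hinv hr (by decide +kernel)) h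
theorem dp_x_5_s (hinv : ∀ x, g (inv x) = (g x)⁻¹) (hr : ∀ r ∈ rels, (r.map g).prod = 1) (hH : ∀ r ∈ subs, (r.map g).prod ∈ H)
    (j u : ℕ) (hu : u < M) (h : dp_x_5 j u = true) : Good (fa g) T MG M (cP g H) Lt.x u := by
  unfold dp_x_5 at h
  rcases brec_true h with h | h
  · exact lF_good (T := T) (x := Lt.x) (by decide) [Lt.y, Lt.y, Lt.y, Lt.x, Lt.y, Lt.x, Lt.y, Lt.y, Lt.y, Lt.x, Lt.y, Lt.x, Lt.y, Lt.y, Lt.y, Lt.x, Lt.y, Lt.x, Lt.y, Lt.y, Lt.y, Lt.x, Lt.y] (hole_rel hinv hr (by decide +kernel)) h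
  · exact dp_x_4_s hinv hr hH j u hu h
theorem dp_x_6_s (hinv : ∀ x, g (inv x) = (g x)⁻¹) (hr : ∀ r ∈ rels, (r.map g).prod = 1) (hH : ∀ r ∈ subs, (r.map g).prod ∈ H)
    (j u : ℕ) (hu : u < M) (h : dp_x_6 j u = true) : Good (fa g) T MG M (cP g H) Lt.x u := by
  unfold dp_x_6 at h
  rcases brec_true h with h | h
  · exact lS_good (T := T) (x := Lt.x) (by decide) hu [Lt.y, Lt.y, Lt.x, Lt.yi, Lt.xi, Lt.xi, Lt.z, Lt.y, Lt.xi, Lt.yi, Lt.yi, Lt.xi, Lt.yi, Lt.xi, Lt.yi, Lt.z, Lt.y, Lt.x, Lt.y] (hole_rel hinv hr (by decide +kernel)) h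
  · exact lH_good (T := T) (x := Lt.x) (by decide) [] [] (by rw [show cP g H 0 = _ from cc_zero]; exact sub_rel hinv (hH _ (by decide))) h
theorem dp_x_7_s (hinv : ∀ x, g (inv x) = (g x)⁻¹) (hr : ∀ r ∈ rels, (r.map g).prod = 1) (hH : ∀ r ∈ subs, (r.map g).prod ∈ H)
    (j u : ℕ) (hu : u < M) (h : dp_x_7 j u = true) : Good (fa g) T MG M (cP g H) Lt.x u := by
  unfold dp_x_7 at h
  rcases brec_true h with h | h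
  · exact lS_good (T := T) (x := Lt.x) (by decide) hu [Lt.y, Lt.x, Lt.y, Lt.y, Lt.y, Lt.x, Lt.y, Lt.x, Lt.y, Lt.y, Lt.y, Lt.x, Lt.y, Lt.x, Lt.y, Lt.y, Lt.y, Lt.x, Lt.y, Lt.x, Lt.y, Lt.y, Lt.y] (hole_rel hinv hr (by decide +kernel)) h
  · exact lS_good (T := T) (x := Lt.x) (by decide) hu [Lt.z, Lt.x, Lt.z] (hole_rel hinv hr (by decide +kernel)) h
theorem dp_x_8_s (hinv : ∀ x, g (inv x) = (g x)⁻¹) (hr : ∀ r ∈ rels, (r.map g).prod = 1) (hH : ∀ r ∈ subs, (r.map g).prod ∈ H)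
    (j u : ℕ) (hu : u < M) (h : dp_x_8 j u = true) : Good (fa g) T MG M (cP g H) Lt.x u := by
  unfold dp_x_8 at h
  rcases brec_true h with h | h
  · exact lF_good (T := T) (x := Lt.x) (by decide) [Lt.y, Lt.x, Lt.y, Lt.y, Lt.y, Lt.x, Lt.y, Lt.x, Lt.y, Lt.y, Lt.y, Lt.x, Lt.y, Lt.x, Lt.y, Lt.y, Lt.y, Lt.x, Lt.y, Lt.x, Lt.y, Lt.y, Lt.y] (hole_rel hinv hr (by decide +kernel)) h
  · exact dp_x_7_s hinv hr hH j u hu h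
theorem dp_x_9_s (hinv : ∀ x, g (inv x) = (g x)⁻¹) (hr : ∀ r ∈ rels, (r.map g).prod = 1) (hH : ∀ r ∈ subs, (r.map g).prod ∈ H)
    (j u : ℕ) (hu : u < M) (h : dp_x_9 j u = true) : Good (fa g) T MG M (cP g H) Lt.x u := by
  unfold dp_x_9 at h
  rcases brec_true h with h | h
  · exact dp_x_6_s hinv hr hH j u hu h
  · exact dp_x_8_s hinv hr hH j u hu h
theorem dp_x_10_s (hinv : ∀ x, g (inv x) = (g x)⁻¹) (hr : ∀ r ∈ rels, (r.map g).prod = 1) (hH : ∀ r ∈ subs, (r.map g).prod ∈ H)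
    (j u : ℕ) (hu : u < M) (h : dp_x_10 j u = true) : Good (fa g) T MG M (cP g H) Lt.x u := by
  unfold dp_x_10 at h
  rcases brec_true h with h | h
  · exact dp_x_5_s hinv hr hH j u hu h
  · exact dp_x_9_s hinv hr hH j u hu h
theorem dp_x_11_s (hinv : ∀ x, g (inv x) = (g x)⁻¹) (hr : ∀ r ∈ rels, (r.map g).prod = 1) (hH : ∀ r ∈ subs, (r.map g).prod ∈ H)
    (j u : ℕ) (hu : u < M) (h : dp_x_11 j u = true) : Good (fa g) T MG M (cP g H) Lt.x u := by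
  unfold dp_x_11 at h
  rcases brec_true h with h | h
  · exact dp_x_3_s hinv hr hH j u hu h
  · exact dp_x_10_s hinv hr hH j u hu h
theorem dp_x_12_s (hinv : ∀ x, g (inv x) = (g x)⁻¹) (hr : ∀ r ∈ rels, (r.map g).prod = 1) (hH : ∀ r ∈ subs, (r.map g).prod ∈ H)
    (j u : ℕ) (hu : u < M) (h : dp_x_12 j u = true) : Good (fa g) T MG M (cP g H) Lt.x u := by
  unfold dp_x_12 at h
  rcases brec_true h with h | h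
  · exact dp_x_1_s hinv hr hH j u hu h
  · exact dp_x_11_s hinv hr hH j u hu h
theorem dp_x_13_s (hinv : ∀ x, g (inv x) = (g x)⁻¹) (hr : ∀ r ∈ rels, (r.map g).prod = 1) (hH : ∀ r ∈ subs, (r.map g).prod ∈ H)
    (j u : ℕ) (hu : u < M) (h : dp_x_13 j u = true) : Good (fa g) T MG M (cP g H) Lt.x u := by
  unfold dp_x_13 at h
  rcases brec_true h with h | h
  · exact lF_good (T := T) (x := Lt.x) (by decide) [Lt.y, Lt.xi, Lt.yi, Lt.x, Lt.y, Lt.xi, Lt.yi, Lt.x, Lt.y, Lt.xi, Lt.yi] (hole_rel hinv hr (by decide +kernel)) h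
  · exact dp_x_12_s hinv hr hH j u hu h
theorem dp_x_14_s (hinv : ∀ x, g (inv x) = (g x)⁻¹) (hr : ∀ r ∈ rels, (r.map g).prod = 1) (hH : ∀ r ∈ subs, (r.map g).prod ∈ H)
    (j u : ℕ) (hu : u < M) (h : dp_x_14 j u = true) : Good (fa g) T MG M (cP g H) Lt.x u := by
  unfold dp_x_14 at h
  rcases brec_true h with h | h
  · exact lF3_good (T := T) (x := Lt.x) (by decide) .z .x .z (hole_rel hinv hr (by decide +kernel)) h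
  · exact dp_x_13_s hinv hr hH j u hu h
theorem dp_x_15_s (hinv : ∀ x, g (inv x) = (g x)⁻¹) (hr : ∀ r ∈ rels, (r.map g).prod = 1) (hH : ∀ r ∈ subs, (r.map g).prod ∈ H)
    (j u : ℕ) (hu : u < M) (h : dp_x_15 j u = true) : Good (fa g) T MG M (cP g H) Lt.x u := by
  unfold dp_x_15 at h
  rcases brec_true h with h | h
  · exact lS_good (T := T) (x := Lt.x) (by decide) hu [Lt.xi] (hole_rel hinv hr (by decide +kernel)) h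
  · exact dp_x_14_s hinv hr hH j u hu h
theorem dp_x_16_s (hinv : ∀ x, g (inv x) = (g x)⁻¹) (hr : ∀ r ∈ rels, (r.map g).prod = 1) (hH : ∀ r ∈ subs, (r.map g).prod ∈ H)
    (j u : ℕ) (hu : u < M) (h : dp_x_16 j u = true) : Good (fa g) T MG M (cP g H) Lt.x u := by
  unfold dp_x_16 at h
  rcases brec_true h with h | h
  · exact lF_good (T := T) (x := Lt.x) (by decide) [Lt.yi, Lt.x, Lt.x, Lt.y, Lt.x] (hole_rel hinv hr (by decide +kernel)) h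
  · exact dp_x_15_s hinv hr hH j u hu h
theorem dp_x_17_s (hinv : ∀ x, g (inv x) = (g x)⁻¹) (hr : ∀ r ∈ rels, (r.map g).prod = 1) (hH : ∀ r ∈ subs, (r.map g).prod ∈ H)
    (j u : ℕ) (hu : u < M) (h : dp_x_17 j u = true) : Good (fa g) T MG M (cP g H) Lt.x u := by
  unfold dp_x_17 at h
  rcases brec_true h with h | h
  · exact lF_good (T := T) (x := Lt.x) (by decide) [Lt.y, Lt.x, Lt.x, Lt.yi, Lt.x] (hole_rel hinv hr (by decide +kernel)) h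
  · exact dp_x_16_s hinv hr hH j u hu h
theorem snd_x (hinv : ∀ x, g (inv x) = (g x)⁻¹) (hr : ∀ r ∈ rels, (r.map g).prod = 1) (hH : ∀ r ∈ subs, (r.map g).prod ∈ H)
    (j u : ℕ) (hu : u < M) (h : disp_x j u = true) : Good (fa g) T MG M (cP g H) Lt.x u := by
  unfold disp_x at h
  rcases brec_true h with h | h
  · rcases brec_true h with h | h
    · exact lDef_good (T := T) (x := Lt.x) (by decide) rfl h
    · exact lPar_good (T := T) (x := Lt.x) (x' := Lt.xi) (by decide) rfl (inv_rel hinv _ _ rfl) h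
  · rcases brec_true h with h | h
    · rcases brec_true h with h | h
      · exact lF1_good (T := T) (x := Lt.x) (by decide) .xi (hole_rel hinv hr (by decide +kernel)) h
      · exact lF_good (T := T) (x := Lt.x) (by decide) [Lt.x, Lt.yi, Lt.x, Lt.x, Lt.y] (hole_rel hinv hr (by decide +kernel)) h
    · exact dp_x_17_s hinv hr hH j u hu h
theorem snc_x (hinv : ∀ x, g (inv x) = (g x)⁻¹) (hr : ∀ r ∈ rels, (r.map g).prod = 1) (hH : ∀ r ∈ subs, (r.map g).prod ∈ H)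
    (j u : ℕ) (hu : u < M) (h : chk_x j u = true) : (T Lt.x u < A ∧ Good (fa g) T MG M (cP g H) Lt.x u) ∨ (A ≤ T Lt.x u ∧ MG u < A) := by
  unfold chk_x at h
  cases hb : Nat.ble A (T_x u) with
  | true => rw [hb] at h; exact Or.inr ⟨le_of_ble hb, le_of_ble h⟩
  | false => rw [hb] at h; exact Or.inl ⟨lt_of_ble_false hb, snd_x hinv hr hH j u hu h⟩
theorem dp_xi_0_s (hinv : ∀ x, g (inv x) = (g x)⁻¹) (hr : ∀ r ∈ rels, (r.map g).prod = 1) (hH : ∀ r ∈ subs, (r.map g).prod ∈ H)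
    (j u : ℕ) (hu : u < M) (h : dp_xi_0 j u = true) : Good (fa g) T MG M (cP g H) Lt.xi u := by
  unfold dp_xi_0 at h
  rcases brec_true h with h | h
  · exact lF_good (T := T) (x := Lt.xi) (by decide) [Lt.yi, Lt.x, Lt.y, Lt.xi, Lt.yi, Lt.x, Lt.y, Lt.xi, Lt.yi, Lt.x, Lt.y] (hole_rel hinv hr (by decide +kernel)) h
  · exact lF_good (T := T) (x := Lt.xi) (by decide) [Lt.y, Lt.y, Lt.x, Lt.y, Lt.y, Lt.y, Lt.xi, Lt.y, Lt.y, Lt.x, Lt.y, Lt.y, Lt.y, Lt.xi, Lt.y, Lt.y, Lt.x, Lt.y, Lt.y, Lt.y] (hole_rel hinv hr (by decide +kernel)) h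
theorem dp_xi_1_s (hinv : ∀ x, g (inv x) = (g x)⁻¹) (hr : ∀ r ∈ rels, (r.map g).prod = 1) (hH : ∀ r ∈ subs, (r.map g).prod ∈ H)
    (j u : ℕ) (hu : u < M) (h : dp_xi_1 j u = true) : Good (fa g) T MG M (cP g H) Lt.xi u := by
  unfold dp_xi_1 at h
  rcases brec_true h with h | h
  · exact lS_good (T := T) (x := Lt.xi) (by decide) hu [Lt.y, Lt.y, Lt.x, Lt.y, Lt.y, Lt.y, Lt.xi, Lt.y, Lt.y, Lt.x, Lt.y, Lt.y, Lt.y, Lt.xi, Lt.y, Lt.y, Lt.x, Lt.y, Lt.y, Lt.y] (hole_rel hinv hr (by decide +kernel)) h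
  · exact lF_good (T := T) (x := Lt.xi) (by decide) [Lt.yi, Lt.yi, Lt.x, Lt.yi, Lt.yi, Lt.yi, Lt.xi, Lt.yi, Lt.yi, Lt.x, Lt.yi, Lt.yi, Lt.yi, Lt.xi, Lt.yi, Lt.yi, Lt.x, Lt.yi, Lt.yi, Lt.yi] (hole_rel hinv hr (by decide +kernel)) h
theorem dp_xi_2_s (hinv : ∀ x, g (inv x) = (g x)⁻¹) (hr : ∀ r ∈ rels, (r.map g).prod = 1) (hH : ∀ r ∈ subs, (r.map g).prod ∈ H)
    (j u : ℕ) (hu : u < M) (h : dp_xi_2 j u = true) : Good (fa g) T MG M (cP g H) Lt.xi u := by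
  unfold dp_xi_2 at h
  rcases brec_true h with h | h
  · exact lF_good (T := T) (x := Lt.xi) (by decide) [Lt.yi, Lt.yi, Lt.xi, Lt.yi, Lt.xi, Lt.yi, Lt.z, Lt.y, Lt.x, Lt.y, Lt.x, Lt.y, Lt.y, Lt.x, Lt.yi, Lt.xi, Lt.xi, Lt.z, Lt.y] (hole_rel hinv hr (by decide +kernel)) h
  · exact lS_good (T := T) (x := Lt.xi) (by decide) hu [Lt.yi, Lt.xi, Lt.yi, Lt.yi, Lt.yi, Lt.xi, Lt.yi, Lt.xi, Lt.yi, Lt.yi, Lt.yi, Lt.xi, Lt.yi, Lt.xi, Lt.yi, Lt.yi, Lt.yi, Lt.xi, Lt.yi, Lt.xi, Lt.yi, Lt.yi, Lt.yi] (hole_rel hinv hr (by decide +kernel)) h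
theorem dp_xi_3_s (hinv : ∀ x, g (inv x) = (g x)⁻¹) (hr : ∀ r ∈ rels, (r.map g).prod = 1) (hH : ∀ r ∈ subs, (r.map g).prod ∈ H)
    (j u : ℕ) (hu : u < M) (h : dp_xi_3 j u = true) : Good (fa g) T MG M (cP g H) Lt.xi u := by
  unfold dp_xi_3 at h
  rcases brec_true h with h | h
  · exact lS_good (T := T) (x := Lt.xi) (by decide) hu [Lt.yi, Lt.x, Lt.y, Lt.xi, Lt.yi, Lt.x, Lt.y, Lt.xi, Lt.yi, Lt.x, Lt.y] (hole_rel hinv hr (by decide +kernel)) h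
  · exact lS_good (T := T) (x := Lt.xi) (by decide) hu [Lt.yi, Lt.xi, Lt.yi, Lt.z, Lt.y, Lt.x, Lt.y, Lt.x, Lt.y, Lt.y, Lt.x, Lt.yi, Lt.xi, Lt.xi, Lt.z, Lt.y, Lt.xi, Lt.yi, Lt.yi] (hole_rel hinv hr (by decide +kernel)) h
theorem dp_xi_4_s (hinv : ∀ x, g (inv x) = (g x)⁻¹) (hr : ∀ r ∈ rels, (r.map g).prod = 1) (hH : ∀ r ∈ subs, (r.map g).prod ∈ H)
    (j u : ℕ) (hu : u < M) (h : dp_xi_4 j u = true) : Good (fa g) T MG M (cP g H) Lt.xi u := by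
  unfold dp_xi_4 at h
  rcases brec_true h with h | h
  · exact lS_good (T := T) (x := Lt.xi) (by decide) hu [Lt.xi, Lt.yi, Lt.xi, Lt.xi, Lt.y] (hole_rel hinv hr (by decide +kernel)) h
  · exact lS_good (T := T) (x := Lt.xi) (by decide) hu [Lt.yi, Lt.yi, Lt.yi, Lt.xi, Lt.yi, Lt.xi, Lt.yi, Lt.yi, Lt.yi, Lt.xi, Lt.yi, Lt.xi, Lt.yi, Lt.yi, Lt.yi, Lt.xi, Lt.yi, Lt.xi, Lt.yi, Lt.yi, Lt.yi, Lt.xi, Lt.yi] (hole_rel hinv hr (by decide +kernel)) h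
theorem dp_xi_5_s (hinv : ∀ x, g (inv x) = (g x)⁻¹) (hr : ∀ r ∈ rels, (r.map g).prod = 1) (hH : ∀ r ∈ subs, (r.map g).prod ∈ H)
    (j u : ℕ) (hu : u < M) (h : dp_xi_5 j u = true) : Good (fa g) T MG M (cP g H) Lt.xi u := by
  unfold dp_xi_5 at h
  rcases brec_true h with h | h
  · exact dp_xi_3_s hinv hr hH j u hu h
  · exact dp_xi_4_s hinv hr hH j u hu h
theorem dp_xi_6_s (hinv : ∀ x, g (inv x) = (g x)⁻¹) (hr : ∀ r ∈ rels, (r.map g).prod = 1) (hH : ∀ r ∈ subs, (r.map g).prod ∈ H)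
    (j u : ℕ) (hu : u < M) (h : dp_xi_6 j u = true) : Good (fa g) T MG M (cP g H) Lt.xi u := by
  unfold dp_xi_6 at h
  rcases brec_true h with h | h
  · exact dp_xi_2_s hinv hr hH j u hu h
  · exact dp_xi_5_s hinv hr hH j u hu h
theorem dp_xi_7_s (hinv : ∀ x, g (inv x) = (g x)⁻¹) (hr : ∀ r ∈ rels, (r.map g).prod = 1) (hH : ∀ r ∈ subs, (r.map g).prod ∈ H)
    (j u : ℕ) (hu : u < M) (h : dp_xi_7 j u = true) : Good (fa g) T MG M (cP g H) Lt.xi u := by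
  unfold dp_xi_7 at h
  rcases brec_true h with h | h
  · exact dp_xi_1_s hinv hr hH j u hu h
  · exact dp_xi_6_s hinv hr hH j u hu h
theorem dp_xi_8_s (hinv : ∀ x, g (inv x) = (g x)⁻¹) (hr : ∀ r ∈ rels, (r.map g).prod = 1) (hH : ∀ r ∈ subs, (r.map g).prod ∈ H)
    (j u : ℕ) (hu : u < M) (h : dp_xi_8 j u = true) : Good (fa g) T MG M (cP g H) Lt.xi u := by
  unfold dp_xi_8 at h
  rcases brec_true h with h | h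
  · exact dp_xi_0_s hinv hr hH j u hu h
  · exact dp_xi_7_s hinv hr hH j u hu h
theorem dp_xi_9_s (hinv : ∀ x, g (inv x) = (g x)⁻¹) (hr : ∀ r ∈ rels, (r.map g).prod = 1) (hH : ∀ r ∈ subs, (r.map g).prod ∈ H)
    (j u : ℕ) (hu : u < M) (h : dp_xi_9 j u = true) : Good (fa g) T MG M (cP g H) Lt.xi u := by
  unfold dp_xi_9 at h
  rcases brec_true h with h | h
  · exact lS_good (T := T) (x := Lt.xi) (by decide) hu [Lt.x] (hole_rel hinv hr (by decide +kernel)) h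
  · exact dp_xi_8_s hinv hr hH j u hu h
theorem dp_xi_10_s (hinv : ∀ x, g (inv x) = (g x)⁻¹) (hr : ∀ r ∈ rels, (r.map g).prod = 1) (hH : ∀ r ∈ subs, (r.map g).prod ∈ H)
    (j u : ℕ) (hu : u < M) (h : dp_xi_10 j u = true) : Good (fa g) T MG M (cP g H) Lt.xi u := by
  unfold dp_xi_10 at h
  rcases brec_true h with h | h
  · exact lF_good (T := T) (x := Lt.xi) (by decide) [Lt.yi, Lt.xi, Lt.xi, Lt.y, Lt.xi] (hole_rel hinv hr (by decide +kernel)) h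
  · exact dp_xi_9_s hinv hr hH j u hu h
theorem dp_xi_11_s (hinv : ∀ x, g (inv x) = (g x)⁻¹) (hr : ∀ r ∈ rels, (r.map g).prod = 1) (hH : ∀ r ∈ subs, (r.map g).prod ∈ H)
    (j u : ℕ) (hu : u < M) (h : dp_xi_11 j u = true) : Good (fa g) T MG M (cP g H) Lt.xi u := by
  unfold dp_xi_11 at h
  rcases brec_true h with h | h
  · exact lF_good (T := T) (x := Lt.xi) (by decide) [Lt.y, Lt.xi, Lt.xi, Lt.yi, Lt.xi] (hole_rel hinv hr (by decide +kernel)) h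
  · exact dp_xi_10_s hinv hr hH j u hu h
theorem dp_xi_12_s (hinv : ∀ x, g (inv x) = (g x)⁻¹) (hr : ∀ r ∈ rels, (r.map g).prod = 1) (hH : ∀ r ∈ subs, (r.map g).prod ∈ H)
    (j u : ℕ) (hu : u < M) (h : dp_xi_12 j u = true) : Good (fa g) T MG M (cP g H) Lt.xi u := by
  unfold dp_xi_12 at h
  rcases brec_true h with h | h
  · exact lF3_good (T := T) (x := Lt.xi) (by decide) .z .xi .z (hole_rel hinv hr (by decide +kernel)) h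
  · exact dp_xi_11_s hinv hr hH j u hu h
theorem dp_xi_13_s (hinv : ∀ x, g (inv x) = (g x)⁻¹) (hr : ∀ r ∈ rels, (r.map g).prod = 1) (hH : ∀ r ∈ subs, (r.map g).prod ∈ H)
    (j u : ℕ) (hu : u < M) (h : dp_xi_13 j u = true) : Good (fa g) T MG M (cP g H) Lt.xi u := by
  unfold dp_xi_13 at h
  rcases brec_true h with h | h
  · exact lF_good (T := T) (x := Lt.xi) (by decide) [Lt.y, Lt.x, Lt.yi, Lt.xi, Lt.y, Lt.x, Lt.yi, Lt.xi, Lt.y, Lt.x, Lt.yi] (hole_rel hinv hr (by decide +kernel)) h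
  · exact dp_xi_12_s hinv hr hH j u hu h
theorem dp_xi_14_s (hinv : ∀ x, g (inv x) = (g x)⁻¹) (hr : ∀ r ∈ rels, (r.map g).prod = 1) (hH : ∀ r ∈ subs, (r.map g).prod ∈ H)
    (j u : ℕ) (hu : u < M) (h : dp_xi_14 j u = true) : Good (fa g) T MG M (cP g H) Lt.xi u := by
  unfold dp_xi_14 at h
  rcases brec_true h with h | h
  · exact lF_good (T := T) (x := Lt.xi) (by decide) [Lt.xi, Lt.yi, Lt.xi, Lt.xi, Lt.y] (hole_rel hinv hr (by decide +kernel)) h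
  · exact dp_xi_13_s hinv hr hH j u hu h
theorem dp_xi_15_s (hinv : ∀ x, g (inv x) = (g x)⁻¹) (hr : ∀ r ∈ rels, (r.map g).prod = 1) (hH : ∀ r ∈ subs, (r.map g).prod ∈ H)
    (j u : ℕ) (hu : u < M) (h : dp_xi_15 j u = true) : Good (fa g) T MG M (cP g H) Lt.xi u := by
  unfold dp_xi_15 at h
  rcases brec_true h with h | h
  · exact lF_good (T := T) (x := Lt.xi) (by decide) [Lt.xi, Lt.y, Lt.xi, Lt.xi, Lt.yi] (hole_rel hinv hr (by decide +kernel)) h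
  · exact dp_xi_14_s hinv hr hH j u hu h
theorem dp_xi_16_s (hinv : ∀ x, g (inv x) = (g x)⁻¹) (hr : ∀ r ∈ rels, (r.map g).prod = 1) (hH : ∀ r ∈ subs, (r.map g).prod ∈ H)
    (j u : ℕ) (hu : u < M) (h : dp_xi_16 j u = true) : Good (fa g) T MG M (cP g H) Lt.xi u := by
  unfold dp_xi_16 at h
  rcases brec_true h with h | h
  · exact lDef_good (T := T) (x := Lt.xi) (by decide) rfl h
  · exact dp_xi_15_s hinv hr hH j u hu h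
theorem snd_xi (hinv : ∀ x, g (inv x) = (g x)⁻¹) (hr : ∀ r ∈ rels, (r.map g).prod = 1) (hH : ∀ r ∈ subs, (r.map g).prod ∈ H)
    (j u : ℕ) (hu : u < M) (h : disp_xi j u = true) : Good (fa g) T MG M (cP g H) Lt.xi u := by
  unfold disp_xi at h
  rcases brec_true h with h | h
  · exact lPar_good (T := T) (x := Lt.xi) (x' := Lt.x) (by decide) rfl (inv_rel hinv _ _ rfl) h
  · rcases brec_true h with h | h
    · exact lF1_good (T := T) (x := Lt.xi) (by decide) .x (hole_rel hinv hr (by decide +kernel)) h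
    · exact dp_xi_16_s hinv hr hH j u hu h
theorem snc_xi (hinv : ∀ x, g (inv x) = (g x)⁻¹) (hr : ∀ r ∈ rels, (r.map g).prod = 1) (hH : ∀ r ∈ subs, (r.map g).prod ∈ H)
    (j u : ℕ) (hu : u < M) (h : chk_xi j u = true) : (T Lt.xi u < A ∧ Good (fa g) T MG M (cP g H) Lt.xi u) ∨ (A ≤ T Lt.xi u ∧ MG u < A) := by
  unfold chk_xi at h
  cases hb : Nat.ble A (T_xi u) with
  | true => rw [hb] at h; exact Or.inr ⟨le_of_ble hb, le_of_ble h⟩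
  | false => rw [hb] at h; exact Or.inl ⟨lt_of_ble_false hb, snd_xi hinv hr hH j u hu h⟩
theorem dp_y_0_s (hinv : ∀ x, g (inv x) = (g x)⁻¹) (hr : ∀ r ∈ rels, (r.map g).prod = 1) (hH : ∀ r ∈ subs, (r.map g).prod ∈ H)
    (j u : ℕ) (hu : u < M) (h : dp_y_0 j u = true) : Good (fa g) T MG M (cP g H) Lt.y u := by
  unfold dp_y_0 at h
  rcases brec_true h with h | h
  · exact lF_good (T := T) (x := Lt.y) (by decide) [Lt.x, Lt.y, Lt.x, Lt.y, Lt.x, Lt.y, Lt.x, Lt.y, Lt.x, Lt.y, Lt.x, Lt.y, Lt.x, Lt.y, Lt.x] (hole_rel hinv hr (by decide +kernel)) h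
  · exact lF_good (T := T) (x := Lt.y) (by decide) [Lt.x, Lt.yi, Lt.xi, Lt.y, Lt.x, Lt.yi, Lt.xi, Lt.y, Lt.x, Lt.yi, Lt.xi] (hole_rel hinv hr (by decide +kernel)) h
theorem dp_y_1_s (hinv : ∀ x, g (inv x) = (g x)⁻¹) (hr : ∀ r ∈ rels, (r.map g).prod = 1) (hH : ∀ r ∈ subs, (r.map g).prod ∈ H)
    (j u : ℕ) (hu : u < M) (h : dp_y_1 j u = true) : Good (fa g) T MG M (cP g H) Lt.y u := by
  unfold dp_y_1 at h
  rcases brec_true h with h | h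
  · exact lS_good (T := T) (x := Lt.y) (by decide) hu [Lt.x, Lt.y, Lt.x, Lt.y, Lt.x, Lt.y, Lt.x, Lt.y, Lt.x, Lt.y, Lt.x, Lt.y, Lt.x, Lt.y, Lt.x] (hole_rel hinv hr (by decide +kernel)) h
  · exact lF_good (T := T) (x := Lt.y) (by decide) [Lt.xi, Lt.yi, Lt.x, Lt.y, Lt.xi, Lt.yi, Lt.x, Lt.y, Lt.xi, Lt.yi, Lt.x] (hole_rel hinv hr (by decide +kernel)) h
theorem dp_y_2_s (hinv : ∀ x, g (inv x) = (g x)⁻¹) (hr : ∀ r ∈ rels, (r.map g).prod = 1) (hH : ∀ r ∈ subs, (r.map g).prod ∈ H)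
    (j u : ℕ) (hu : u < M) (h : dp_y_2 j u = true) : Good (fa g) T MG M (cP g H) Lt.y u := by
  unfold dp_y_2 at h
  rcases brec_true h with h | h
  · exact lS_good (T := T) (x := Lt.y) (by decide) hu [Lt.y, Lt.xi, Lt.y, Lt.y, Lt.x, Lt.y, Lt.y, Lt.y, Lt.xi, Lt.y, Lt.y, Lt.x, Lt.y, Lt.y, Lt.y, Lt.xi, Lt.y, Lt.y, Lt.x, Lt.y] (hole_rel hinv hr (by decide +kernel)) h
  · exact lS_good (T := T) (x := Lt.y) (by decide) hu [Lt.x, Lt.y, Lt.y, Lt.y, Lt.xi, Lt.y, Lt.y, Lt.x, Lt.y, Lt.y, Lt.y, Lt.xi, Lt.y, Lt.y, Lt.x, Lt.y, Lt.y, Lt.y, Lt.xi, Lt.y] (hole_rel hinv hr (by decide +kernel)) h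
theorem dp_y_3_s (hinv : ∀ x, g (inv x) = (g x)⁻¹) (hr : ∀ r ∈ rels, (r.map g).prod = 1) (hH : ∀ r ∈ subs, (r.map g).prod ∈ H)
    (j u : ℕ) (hu : u < M) (h : dp_y_3 j u = true) : Good (fa g) T MG M (cP g H) Lt.y u := by
  unfold dp_y_3 at h
  rcases brec_true h with h | h
  · exact lF_good (T := T) (x := Lt.y) (by decide) [Lt.x, Lt.y, Lt.y, Lt.y, Lt.xi, Lt.y, Lt.y, Lt.x, Lt.y, Lt.y, Lt.y, Lt.xi, Lt.y, Lt.y, Lt.x, Lt.y, Lt.y, Lt.y, Lt.xi, Lt.y] (hole_rel hinv hr (by decide +kernel)) h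
  · exact dp_y_2_s hinv hr hH j u hu h
theorem dp_y_4_s (hinv : ∀ x, g (inv x) = (g x)⁻¹) (hr : ∀ r ∈ rels, (r.map g).prod = 1) (hH : ∀ r ∈ subs, (r.map g).prod ∈ H)
    (j u : ℕ) (hu : u < M) (h : dp_y_4 j u = true) : Good (fa g) T MG M (cP g H) Lt.y u := by
  unfold dp_y_4 at h
  rcases brec_true h with h | h
  · exact lF_good (T := T) (x := Lt.y) (by decide) [Lt.xi, Lt.yi, Lt.yi, Lt.xi, Lt.yi, Lt.xi, Lt.yi, Lt.z, Lt.y, Lt.x, Lt.y, Lt.x, Lt.y, Lt.y, Lt.x, Lt.yi, Lt.xi, Lt.xi, Lt.z] (hole_rel hinv hr (by decide +kernel)) h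
  · exact lF_good (T := T) (x := Lt.y) (by decide) [Lt.x, Lt.y, Lt.x, Lt.y, Lt.y, Lt.x, Lt.yi, Lt.xi, Lt.xi, Lt.z, Lt.y, Lt.xi, Lt.yi, Lt.yi, Lt.xi, Lt.yi, Lt.xi, Lt.yi, Lt.z] (hole_rel hinv hr (by decide +kernel)) h
theorem dp_y_5_s (hinv : ∀ x, g (inv x) = (g x)⁻¹) (hr : ∀ r ∈ rels, (r.map g).prod = 1) (hH : ∀ r ∈ subs, (r.map g).prod ∈ H)
    (j u : ℕ) (hu : u < M) (h : dp_y_5 j u = true) : Good (fa g) T MG M (cP g H) Lt.y u := by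
  unfold dp_y_5 at h
  rcases brec_true h with h | h
  · exact lF_good (T := T) (x := Lt.y) (by decide) [Lt.y, Lt.xi, Lt.y, Lt.y, Lt.x, Lt.y, Lt.y, Lt.y, Lt.xi, Lt.y, Lt.y, Lt.x, Lt.y, Lt.y, Lt.y, Lt.xi, Lt.y, Lt.y, Lt.x, Lt.y] (hole_rel hinv hr (by decide +kernel)) h
  · exact dp_y_4_s hinv hr hH j u hu h
theorem dp_y_6_s (hinv : ∀ x, g (inv x) = (g x)⁻¹) (hr : ∀ r ∈ rels, (r.map g).prod = 1) (hH : ∀ r ∈ subs, (r.map g).prod ∈ H)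
    (j u : ℕ) (hu : u < M) (h : dp_y_6 j u = true) : Good (fa g) T MG M (cP g H) Lt.y u := by
  unfold dp_y_6 at h
  rcases brec_true h with h | h
  · exact dp_y_3_s hinv hr hH j u hu h
  · exact dp_y_5_s hinv hr hH j u hu h
theorem dp_y_7_s (hinv : ∀ x, g (inv x) = (g x)⁻¹) (hr : ∀ r ∈ rels, (r.map g).prod = 1) (hH : ∀ r ∈ subs, (r.map g).prod ∈ H)
    (j u : ℕ) (hu : u < M) (h : dp_y_7 j u = true) : Good (fa g) T MG M (cP g H) Lt.y u := by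
  unfold dp_y_7 at h
  rcases brec_true h with h | h
  · exact lS_good (T := T) (x := Lt.y) (by decide) hu [Lt.y, Lt.y, Lt.y, Lt.y, Lt.y] (hole_rel hinv hr (by decide +kernel)) h
  · exact lF_good (T := T) (x := Lt.y) (by decide) [Lt.x, Lt.y, Lt.x, Lt.y, Lt.y, Lt.x, Lt.yi, Lt.z, Lt.x, Lt.x, Lt.y, Lt.xi, Lt.yi, Lt.yi, Lt.xi, Lt.yi, Lt.xi, Lt.yi, Lt.z] (hole_rel hinv hr (by decide +kernel)) h
theorem dp_y_8_s (hinv : ∀ x, g (inv x) = (g x)⁻¹) (hr : ∀ r ∈ rels, (r.map g).prod = 1) (hH : ∀ r ∈ subs, (r.map g).prod ∈ H)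
    (j u : ℕ) (hu : u < M) (h : dp_y_8 j u = true) : Good (fa g) T MG M (cP g H) Lt.y u := by
  unfold dp_y_8 at h
  rcases brec_true h with h | h
  · exact lF_good (T := T) (x := Lt.y) (by decide) [Lt.x, Lt.y, Lt.y, Lt.x, Lt.yi, Lt.xi, Lt.xi, Lt.z, Lt.y, Lt.xi, Lt.yi, Lt.yi, Lt.xi, Lt.yi, Lt.xi, Lt.yi, Lt.z, Lt.y, Lt.x] (hole_rel hinv hr (by decide +kernel)) h
  · exact lF_good (T := T) (x := Lt.y) (by decide) [Lt.xi, Lt.y, Lt.y, Lt.x, Lt.y, Lt.y, Lt.y, Lt.xi, Lt.y, Lt.y, Lt.x, Lt.y, Lt.y, Lt.y, Lt.xi, Lt.y, Lt.y, Lt.x, Lt.y, Lt.y] (hole_rel hinv hr (by decide +kernel)) h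
theorem dp_y_9_s (hinv : ∀ x, g (inv x) = (g x)⁻¹) (hr : ∀ r ∈ rels, (r.map g).prod = 1) (hH : ∀ r ∈ subs, (r.map g).prod ∈ H)
    (j u : ℕ) (hu : u < M) (h : dp_y_9 j u = true) : Good (fa g) T MG M (cP g H) Lt.y u := by
  unfold dp_y_9 at h
  rcases brec_true h with h | h
  · exact dp_y_7_s hinv hr hH j u hu h
  · exact dp_y_8_s hinv hr hH j u hu h
theorem dp_y_10_s (hinv : ∀ x, g (inv x) = (g x)⁻¹) (hr : ∀ r ∈ rels, (r.map g).prod = 1) (hH : ∀ r ∈ subs, (r.map g).prod ∈ H)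
    (j u : ℕ) (hu : u < M) (h : dp_y_10 j u = true) : Good (fa g) T MG M (cP g H) Lt.y u := by
  unfold dp_y_10 at h
  rcases brec_true h with h | h
  · exact lF_good (T := T) (x := Lt.y) (by decide) [Lt.y, Lt.x, Lt.y, Lt.y, Lt.y, Lt.xi, Lt.y, Lt.y, Lt.x, Lt.y, Lt.y, Lt.y, Lt.xi, Lt.y, Lt.y, Lt.x, Lt.y, Lt.y, Lt.y, Lt.xi] (hole_rel hinv hr (by decide +kernel)) h
  · exact lH_good (T := T) (x := Lt.y) (by decide) [] [] (by rw [show cP g H 0 = _ from cc_zero]; exact sub_rel hinv (hH _ (by decide))) h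
theorem dp_y_11_s (hinv : ∀ x, g (inv x) = (g x)⁻¹) (hr : ∀ r ∈ rels, (r.map g).prod = 1) (hH : ∀ r ∈ subs, (r.map g).prod ∈ H)
    (j u : ℕ) (hu : u < M) (h : dp_y_11 j u = true) : Good (fa g) T MG M (cP g H) Lt.y u := by
  unfold dp_y_11 at h
  rcases brec_true h with h | h
  · exact lS_good (T := T) (x := Lt.y) (by decide) hu [Lt.y, Lt.x, Lt.y, Lt.y, Lt.y, Lt.xi, Lt.y, Lt.y, Lt.x, Lt.y, Lt.y, Lt.y, Lt.xi, Lt.y, Lt.y, Lt.x, Lt.y, Lt.y, Lt.y, Lt.xi] (hole_rel hinv hr (by decide +kernel)) h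
  · exact dp_y_10_s hinv hr hH j u hu h
theorem dp_y_12_s (hinv : ∀ x, g (inv x) = (g x)⁻¹) (hr : ∀ r ∈ rels, (r.map g).prod = 1) (hH : ∀ r ∈ subs, (r.map g).prod ∈ H)
    (j u : ℕ) (hu : u < M) (h : dp_y_12 j u = true) : Good (fa g) T MG M (cP g H) Lt.y u := by
  unfold dp_y_12 at h
  rcases brec_true h with h | h
  · exact lF_good (T := T) (x := Lt.y) (by decide) [Lt.y, Lt.x, Lt.yi, Lt.xi, Lt.xi, Lt.z, Lt.y, Lt.xi, Lt.yi, Lt.yi, Lt.xi, Lt.yi, Lt.xi, Lt.yi, Lt.z, Lt.y, Lt.x, Lt.y, Lt.x] (hole_rel hinv hr (by decide +kernel)) h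
  · exact lF_good (T := T) (x := Lt.y) (by decide) [Lt.y, Lt.y, Lt.xi, Lt.y, Lt.y, Lt.x, Lt.y, Lt.y, Lt.y, Lt.xi, Lt.y, Lt.y, Lt.x, Lt.y, Lt.y, Lt.y, Lt.xi, Lt.y, Lt.y, Lt.x] (hole_rel hinv hr (by decide +kernel)) h
theorem dp_y_13_s (hinv : ∀ x, g (inv x) = (g x)⁻¹) (hr : ∀ r ∈ rels, (r.map g).prod = 1) (hH : ∀ r ∈ subs, (r.map g).prod ∈ H)
    (j u : ℕ) (hu : u < M) (h : dp_y_13 j u = true) : Good (fa g) T MG M (cP g H) Lt.y u := by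
  unfold dp_y_13 at h
  rcases brec_true h with h | h
  · exact lF_good (T := T) (x := Lt.y) (by decide) [Lt.y, Lt.x, Lt.y, Lt.x, Lt.y, Lt.y, Lt.y, Lt.x, Lt.y, Lt.x, Lt.y, Lt.y, Lt.y, Lt.x, Lt.y, Lt.x, Lt.y, Lt.y, Lt.y, Lt.x, Lt.y, Lt.x, Lt.y] (hole_rel hinv hr (by decide +kernel)) h
  · exact dp_y_12_s hinv hr hH j u hu h
theorem dp_y_14_s (hinv : ∀ x, g (inv x) = (g x)⁻¹) (hr : ∀ r ∈ rels, (r.map g).prod = 1) (hH : ∀ r ∈ subs, (r.map g).prod ∈ H)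
    (j u : ℕ) (hu : u < M) (h : dp_y_14 j u = true) : Good (fa g) T MG M (cP g H) Lt.y u := by
  unfold dp_y_14 at h
  rcases brec_true h with h | h
  · exact lS_good (T := T) (x := Lt.y) (by decide) hu [Lt.xi, Lt.yi, Lt.x, Lt.y, Lt.xi, Lt.yi, Lt.x, Lt.y, Lt.xi, Lt.yi, Lt.x] (hole_rel hinv hr (by decide +kernel)) h
  · exact lS_good (T := T) (x := Lt.y) (by decide) hu [Lt.y, Lt.x, Lt.y, Lt.x, Lt.y, Lt.x, Lt.yi, Lt.xi, Lt.yi, Lt.xi, Lt.yi, Lt.yi, Lt.yi, Lt.z, Lt.y, Lt.y, Lt.y, Lt.x, Lt.y, Lt.x, Lt.y, Lt.x, Lt.yi, Lt.xi, Lt.yi, Lt.xi, Lt.yi, Lt.yi, Lt.yi, Lt.z, Lt.y, Lt.y, Lt.y, Lt.x, Lt.y, Lt.x, Lt.y, Lt.x, Lt.z, Lt.yi, Lt.xi, Lt.yi, Lt.xi, Lt.yi, Lt.yi, Lt.yi, Lt.z, Lt.y] (hole_rel hinv hr (by decide +kernel)) h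
theorem dp_y_15_s (hinv : ∀ x, g (inv x) = (g x)⁻¹) (hr : ∀ r ∈ rels, (r.map g).prod = 1) (hH : ∀ r ∈ subs, (r.map g).prod ∈ H)
    (j u : ℕ) (hu : u < M) (h : dp_y_15 j u = true) : Good (fa g) T MG M (cP g H) Lt.y u := by
  unfold dp_y_15 at h
  rcases brec_true h with h | h
  · exact lS_good (T := T) (x := Lt.y) (by decide) hu [Lt.y, Lt.x, Lt.yi, Lt.xi, Lt.xi, Lt.z, Lt.y, Lt.xi, Lt.yi, Lt.yi, Lt.xi, Lt.yi, Lt.xi, Lt.yi, Lt.z, Lt.y, Lt.x, Lt.y, Lt.x] (hole_rel hinv hr (by decide +kernel)) h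
  · exact lS_good (T := T) (x := Lt.y) (by decide) hu [Lt.y, Lt.x, Lt.y, Lt.x, Lt.y, Lt.y, Lt.y, Lt.x, Lt.y, Lt.x, Lt.y, Lt.y, Lt.y, Lt.x, Lt.y, Lt.x, Lt.y, Lt.y, Lt.y, Lt.x, Lt.y, Lt.x, Lt.y] (hole_rel hinv hr (by decide +kernel)) h
theorem dp_y_16_s (hinv : ∀ x, g (inv x) = (g x)⁻¹) (hr : ∀ r ∈ rels, (r.map g).prod = 1) (hH : ∀ r ∈ subs, (r.map g).prod ∈ H)
    (j u : ℕ) (hu : u < M) (h : dp_y_16 j u = true) : Good (fa g) T MG M (cP g H) Lt.y u := by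
  unfold dp_y_16 at h
  rcases brec_true h with h | h
  · exact dp_y_14_s hinv hr hH j u hu h
  · exact dp_y_15_s hinv hr hH j u hu h
theorem dp_y_17_s (hinv : ∀ x, g (inv x) = (g x)⁻¹) (hr : ∀ r ∈ rels, (r.map g).prod = 1) (hH : ∀ r ∈ subs, (r.map g).prod ∈ H)
    (j u : ℕ) (hu : u < M) (h : dp_y_17 j u = true) : Good (fa g) T MG M (cP g H) Lt.y u := by
  unfold dp_y_17 at h
  rcases brec_true h with h | h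
  · exact dp_y_13_s hinv hr hH j u hu h
  · exact dp_y_16_s hinv hr hH j u hu h
theorem dp_y_18_s (hinv : ∀ x, g (inv x) = (g x)⁻¹) (hr : ∀ r ∈ rels, (r.map g).prod = 1) (hH : ∀ r ∈ subs, (r.map g).prod ∈ H)
    (j u : ℕ) (hu : u < M) (h : dp_y_18 j u = true) : Good (fa g) T MG M (cP g H) Lt.y u := by
  unfold dp_y_18 at h
  rcases brec_true h with h | h
  · exact dp_y_11_s hinv hr hH j u hu h
  · exact dp_y_17_s hinv hr hH j u hu h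
theorem dp_y_19_s (hinv : ∀ x, g (inv x) = (g x)⁻¹) (hr : ∀ r ∈ rels, (r.map g).prod = 1) (hH : ∀ r ∈ subs, (r.map g).prod ∈ H)
    (j u : ℕ) (hu : u < M) (h : dp_y_19 j u = true) : Good (fa g) T MG M (cP g H) Lt.y u := by
  unfold dp_y_19 at h
  rcases brec_true h with h | h
  · exact dp_y_9_s hinv hr hH j u hu h
  · exact dp_y_18_s hinv hr hH j u hu h
theorem dp_y_20_s (hinv : ∀ x, g (inv x) = (g x)⁻¹) (hr : ∀ r ∈ rels, (r.map g).prod = 1) (hH : ∀ r ∈ subs, (r.map g).prod ∈ H)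
    (j u : ℕ) (hu : u < M) (h : dp_y_20 j u = true) : Good (fa g) T MG M (cP g H) Lt.y u := by
  unfold dp_y_20 at h
  rcases brec_true h with h | h
  · exact dp_y_6_s hinv hr hH j u hu h
  · exact dp_y_19_s hinv hr hH j u hu h
theorem dp_y_21_s (hinv : ∀ x, g (inv x) = (g x)⁻¹) (hr : ∀ r ∈ rels, (r.map g).prod = 1) (hH : ∀ r ∈ subs, (r.map g).prod ∈ H)
    (j u : ℕ) (hu : u < M) (h : dp_y_21 j u = true) : Good (fa g) T MG M (cP g H) Lt.y u := by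
  unfold dp_y_21 at h
  rcases brec_true h with h | h
  · exact dp_y_1_s hinv hr hH j u hu h
  · exact dp_y_20_s hinv hr hH j u hu h
theorem dp_y_22_s (hinv : ∀ x, g (inv x) = (g x)⁻¹) (hr : ∀ r ∈ rels, (r.map g).prod = 1) (hH : ∀ r ∈ subs, (r.map g).prod ∈ H)
    (j u : ℕ) (hu : u < M) (h : dp_y_22 j u = true) : Good (fa g) T MG M (cP g H) Lt.y u := by
  unfold dp_y_22 at h
  rcases brec_true h with h | h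
  · exact dp_y_0_s hinv hr hH j u hu h
  · exact dp_y_21_s hinv hr hH j u hu h
theorem dp_y_23_s (hinv : ∀ x, g (inv x) = (g x)⁻¹) (hr : ∀ r ∈ rels, (r.map g).prod = 1) (hH : ∀ r ∈ subs, (r.map g).prod ∈ H)
    (j u : ℕ) (hu : u < M) (h : dp_y_23 j u = true) : Good (fa g) T MG M (cP g H) Lt.y u := by
  unfold dp_y_23 at h
  rcases brec_true h with h | h
  · exact lS_good (T := T) (x := Lt.y) (by decide) hu [Lt.yi] (hole_rel hinv hr (by decide +kernel)) h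
  · exact dp_y_22_s hinv hr hH j u hu h
theorem dp_y_24_s (hinv : ∀ x, g (inv x) = (g x)⁻¹) (hr : ∀ r ∈ rels, (r.map g).prod = 1) (hH : ∀ r ∈ subs, (r.map g).prod ∈ H)
    (j u : ℕ) (hu : u < M) (h : dp_y_24 j u = true) : Good (fa g) T MG M (cP g H) Lt.y u := by
  unfold dp_y_24 at h
  rcases brec_true h with h | h
  · exact lF_good (T := T) (x := Lt.y) (by decide) [Lt.y, Lt.y, Lt.y, Lt.y, Lt.y] (hole_rel hinv hr (by decide +kernel)) h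
  · exact dp_y_23_s hinv hr hH j u hu h
theorem dp_y_25_s (hinv : ∀ x, g (inv x) = (g x)⁻¹) (hr : ∀ r ∈ rels, (r.map g).prod = 1) (hH : ∀ r ∈ subs, (r.map g).prod ∈ H)
    (j u : ℕ) (hu : u < M) (h : dp_y_25 j u = true) : Good (fa g) T MG M (cP g H) Lt.y u := by
  unfold dp_y_25 at h
  rcases brec_true h with h | h
  · exact lF1_good (T := T) (x := Lt.y) (by decide) .yi (hole_rel hinv hr (by decide +kernel)) h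
  · exact dp_y_24_s hinv hr hH j u hu h
theorem dp_y_26_s (hinv : ∀ x, g (inv x) = (g x)⁻¹) (hr : ∀ r ∈ rels, (r.map g).prod = 1) (hH : ∀ r ∈ subs, (r.map g).prod ∈ H)
    (j u : ℕ) (hu : u < M) (h : dp_y_26 j u = true) : Good (fa g) T MG M (cP g H) Lt.y u := by
  unfold dp_y_26 at h
  rcases brec_true h with h | h
  · exact lPar_good (T := T) (x := Lt.y) (x' := Lt.yi) (by decide) rfl (inv_rel hinv _ _ rfl) h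
  · exact dp_y_25_s hinv hr hH j u hu h
theorem snd_y (hinv : ∀ x, g (inv x) = (g x)⁻¹) (hr : ∀ r ∈ rels, (r.map g).prod = 1) (hH : ∀ r ∈ subs, (r.map g).prod ∈ H)
    (j u : ℕ) (hu : u < M) (h : disp_y j u = true) : Good (fa g) T MG M (cP g H) Lt.y u := by
  unfold disp_y at h
  rcases brec_true h with h | h
  · exact lDef_good (T := T) (x := Lt.y) (by decide) rfl h
  · exact dp_y_26_s hinv hr hH j u hu h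
theorem snc_y (hinv : ∀ x, g (inv x) = (g x)⁻¹) (hr : ∀ r ∈ rels, (r.map g).prod = 1) (hH : ∀ r ∈ subs, (r.map g).prod ∈ H)
    (j u : ℕ) (hu : u < M) (h : chk_y j u = true) : (T Lt.y u < A ∧ Good (fa g) T MG M (cP g H) Lt.y u) ∨ (A ≤ T Lt.y u ∧ MG u < A) := by
  unfold chk_y at h
  cases hb : Nat.ble A (T_y u) with
  | true => rw [hb] at h; exact Or.inr ⟨le_of_ble hb, le_of_ble h⟩
  | false => rw [hb] at h; exact Or.inl ⟨lt_of_ble_false hb, snd_y hinv hr hH j u hu h⟩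
theorem dp_yi_0_s (hinv : ∀ x, g (inv x) = (g x)⁻¹) (hr : ∀ r ∈ rels, (r.map g).prod = 1) (hH : ∀ r ∈ subs, (r.map g).prod ∈ H)
    (j u : ℕ) (hu : u < M) (h : dp_yi_0 j u = true) : Good (fa g) T MG M (cP g H) Lt.yi u := by
  unfold dp_yi_0 at h
  rcases brec_true h with h | h
  · exact lF_good (T := T) (x := Lt.yi) (by decide) [Lt.x, Lt.y, Lt.xi, Lt.yi, Lt.x, Lt.y, Lt.xi, Lt.yi, Lt.x, Lt.y, Lt.xi] (hole_rel hinv hr (by decide +kernel)) h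
  · exact lF_good (T := T) (x := Lt.yi) (by decide) [Lt.yi, Lt.yi, Lt.yi, Lt.yi, Lt.yi] (hole_rel hinv hr (by decide +kernel)) h
theorem dp_yi_1_s (hinv : ∀ x, g (inv x) = (g x)⁻¹) (hr : ∀ r ∈ rels, (r.map g).prod = 1) (hH : ∀ r ∈ subs, (r.map g).prod ∈ H)
    (j u : ℕ) (hu : u < M) (h : dp_yi_1 j u = true) : Good (fa g) T MG M (cP g H) Lt.yi u := by
  unfold dp_yi_1 at h
  rcases brec_true h with h | h
  · exact lF_good (T := T) (x := Lt.yi) (by decide) [Lt.xi, Lt.yi, Lt.xi, Lt.yi, Lt.xi, Lt.yi, Lt.xi, Lt.yi, Lt.xi, Lt.yi, Lt.xi, Lt.yi, Lt.xi, Lt.yi, Lt.xi] (hole_rel hinv hr (by decide +kernel)) h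
  · exact lS_good (T := T) (x := Lt.yi) (by decide) hu [Lt.xi, Lt.yi, Lt.xi, Lt.yi, Lt.xi, Lt.yi, Lt.xi, Lt.yi, Lt.xi, Lt.yi, Lt.xi, Lt.yi, Lt.xi, Lt.yi, Lt.xi] (hole_rel hinv hr (by decide +kernel)) h
theorem dp_yi_2_s (hinv : ∀ x, g (inv x) = (g x)⁻¹) (hr : ∀ r ∈ rels, (r.map g).prod = 1) (hH : ∀ r ∈ subs, (r.map g).prod ∈ H)
    (j u : ℕ) (hu : u < M) (h : dp_yi_2 j u = true) : Good (fa g) T MG M (cP g H) Lt.yi u := by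
  unfold dp_yi_2 at h
  rcases brec_true h with h | h
  · exact lF_good (T := T) (x := Lt.yi) (by decide) [Lt.z, Lt.y, Lt.x, Lt.y, Lt.x, Lt.y, Lt.y, Lt.x, Lt.yi, Lt.xi, Lt.xi, Lt.z, Lt.y, Lt.xi, Lt.yi, Lt.yi, Lt.xi, Lt.yi, Lt.xi] (hole_rel hinv hr (by decide +kernel)) h
  · exact lS_good (T := T) (x := Lt.yi) (by decide) hu [Lt.yi, Lt.xi, Lt.yi, Lt.yi, Lt.x, Lt.yi, Lt.yi, Lt.yi, Lt.xi, Lt.yi, Lt.yi, Lt.x, Lt.yi, Lt.yi, Lt.yi, Lt.xi, Lt.yi, Lt.yi, Lt.x, Lt.yi] (hole_rel hinv hr (by decide +kernel)) h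
theorem dp_yi_3_s (hinv : ∀ x, g (inv x) = (g x)⁻¹) (hr : ∀ r ∈ rels, (r.map g).prod = 1) (hH : ∀ r ∈ subs, (r.map g).prod ∈ H)
    (j u : ℕ) (hu : u < M) (h : dp_yi_3 j u = true) : Good (fa g) T MG M (cP g H) Lt.yi u := by
  unfold dp_yi_3 at h
  rcases brec_true h with h | h
  · exact lF_good (T := T) (x := Lt.yi) (by decide) [Lt.xi, Lt.yi, Lt.xi, Lt.yi, Lt.z, Lt.y, Lt.x, Lt.y, Lt.x, Lt.y, Lt.y, Lt.x, Lt.yi, Lt.xi, Lt.xi, Lt.z, Lt.y, Lt.xi, Lt.yi] (hole_rel hinv hr (by decide +kernel)) h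
  · exact lS_good (T := T) (x := Lt.yi) (by decide) hu [Lt.xi, Lt.yi, Lt.xi, Lt.yi, Lt.z, Lt.y, Lt.x, Lt.y, Lt.x, Lt.y, Lt.y, Lt.x, Lt.yi, Lt.xi, Lt.xi, Lt.z, Lt.y, Lt.xi, Lt.yi] (hole_rel hinv hr (by decide +kernel)) h
theorem dp_yi_4_s (hinv : ∀ x, g (inv x) = (g x)⁻¹) (hr : ∀ r ∈ rels, (r.map g).prod = 1) (hH : ∀ r ∈ subs, (r.map g).prod ∈ H)
    (j u : ℕ) (hu : u < M) (h : dp_yi_4 j u = true) : Good (fa g) T MG M (cP g H) Lt.yi u := by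
  unfold dp_yi_4 at h
  rcases brec_true h with h | h
  · exact dp_yi_2_s hinv hr hH j u hu h
  · exact dp_yi_3_s hinv hr hH j u hu h
theorem dp_yi_5_s (hinv : ∀ x, g (inv x) = (g x)⁻¹) (hr : ∀ r ∈ rels, (r.map g).prod = 1) (hH : ∀ r ∈ subs, (r.map g).prod ∈ H)
    (j u : ℕ) (hu : u < M) (h : dp_yi_5 j u = true) : Good (fa g) T MG M (cP g H) Lt.yi u := by
  unfold dp_yi_5 at h
  rcases brec_true h with h | h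
  · exact lF_good (T := T) (x := Lt.yi) (by decide) [Lt.xi, Lt.xi, Lt.z, Lt.y, Lt.xi, Lt.yi, Lt.yi, Lt.xi, Lt.yi, Lt.xi, Lt.yi, Lt.z, Lt.y, Lt.x, Lt.y, Lt.x, Lt.y, Lt.y, Lt.x] (hole_rel hinv hr (by decide +kernel)) h
  · exact lF_good (T := T) (x := Lt.yi) (by decide) [Lt.xi, Lt.yi, Lt.z, Lt.y, Lt.x, Lt.y, Lt.x, Lt.y, Lt.y, Lt.x, Lt.yi, Lt.xi, Lt.xi, Lt.z, Lt.y, Lt.xi, Lt.yi, Lt.yi, Lt.xi] (hole_rel hinv hr (by decide +kernel)) h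
theorem dp_yi_6_s (hinv : ∀ x, g (inv x) = (g x)⁻¹) (hr : ∀ r ∈ rels, (r.map g).prod = 1) (hH : ∀ r ∈ subs, (r.map g).prod ∈ H)
    (j u : ℕ) (hu : u < M) (h : dp_yi_6 j u = true) : Good (fa g) T MG M (cP g H) Lt.yi u := by
  unfold dp_yi_6 at h
  rcases brec_true h with h | h
  · exact lF_good (T := T) (x := Lt.yi) (by decide) [Lt.x, Lt.yi, Lt.yi, Lt.yi, Lt.xi, Lt.yi, Lt.yi, Lt.x, Lt.yi, Lt.yi, Lt.yi, Lt.xi, Lt.yi, Lt.yi, Lt.x, Lt.yi, Lt.yi, Lt.yi, Lt.xi, Lt.yi] (hole_rel hinv hr (by decide +kernel)) h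
  · exact dp_yi_5_s hinv hr hH j u hu h
theorem dp_yi_7_s (hinv : ∀ x, g (inv x) = (g x)⁻¹) (hr : ∀ r ∈ rels, (r.map g).prod = 1) (hH : ∀ r ∈ subs, (r.map g).prod ∈ H)
    (j u : ℕ) (hu : u < M) (h : dp_yi_7 j u = true) : Good (fa g) T MG M (cP g H) Lt.yi u := by
  unfold dp_yi_7 at h
  rcases brec_true h with h | h
  · exact lS_good (T := T) (x := Lt.yi) (by decide) hu [Lt.yi, Lt.x, Lt.yi, Lt.yi, Lt.yi, Lt.xi, Lt.yi, Lt.yi, Lt.x, Lt.yi, Lt.yi, Lt.yi, Lt.xi, Lt.yi, Lt.yi, Lt.x, Lt.yi, Lt.yi, Lt.yi, Lt.xi] (hole_rel hinv hr (by decide +kernel)) h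
  · exact lF_good (T := T) (x := Lt.yi) (by decide) [Lt.yi, Lt.xi, Lt.yi, Lt.xi, Lt.yi, Lt.yi, Lt.yi, Lt.xi, Lt.yi, Lt.xi, Lt.yi, Lt.yi, Lt.yi, Lt.xi, Lt.yi, Lt.xi, Lt.yi, Lt.yi, Lt.yi, Lt.xi, Lt.yi, Lt.xi, Lt.yi] (hole_rel hinv hr (by decide +kernel)) h
theorem dp_yi_8_s (hinv : ∀ x, g (inv x) = (g x)⁻¹) (hr : ∀ r ∈ rels, (r.map g).prod = 1) (hH : ∀ r ∈ subs, (r.map g).prod ∈ H)
    (j u : ℕ) (hu : u < M) (h : dp_yi_8 j u = true) : Good (fa g) T MG M (cP g H) Lt.yi u := by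
  unfold dp_yi_8 at h
  rcases brec_true h with h | h
  · exact lS_good (T := T) (x := Lt.yi) (by decide) hu [Lt.yi, Lt.yi, Lt.yi, Lt.yi, Lt.yi] (hole_rel hinv hr (by decide +kernel)) h
  · exact dp_yi_7_s hinv hr hH j u hu h
theorem dp_yi_9_s (hinv : ∀ x, g (inv x) = (g x)⁻¹) (hr : ∀ r ∈ rels, (r.map g).prod = 1) (hH : ∀ r ∈ subs, (r.map g).prod ∈ H)
    (j u : ℕ) (hu : u < M) (h : dp_yi_9 j u = true) : Good (fa g) T MG M (cP g H) Lt.yi u := by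
  unfold dp_yi_9 at h
  rcases brec_true h with h | h
  · exact lF_good (T := T) (x := Lt.yi) (by decide) [Lt.yi, Lt.xi, Lt.yi, Lt.xi, Lt.yi, Lt.z, Lt.y, Lt.x, Lt.y, Lt.x, Lt.y, Lt.y, Lt.x, Lt.yi, Lt.xi, Lt.xi, Lt.z, Lt.y, Lt.xi] (hole_rel hinv hr (by decide +kernel)) h
  · exact lS_good (T := T) (x := Lt.yi) (by decide) hu [Lt.yi, Lt.xi, Lt.yi, Lt.xi, Lt.yi, Lt.yi, Lt.yi, Lt.xi, Lt.yi, Lt.xi, Lt.yi, Lt.yi, Lt.yi, Lt.xi, Lt.yi, Lt.xi, Lt.yi, Lt.yi, Lt.yi, Lt.xi, Lt.yi, Lt.xi, Lt.yi] (hole_rel hinv hr (by decide +kernel)) h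
theorem dp_yi_10_s (hinv : ∀ x, g (inv x) = (g x)⁻¹) (hr : ∀ r ∈ rels, (r.map g).prod = 1) (hH : ∀ r ∈ subs, (r.map g).prod ∈ H)
    (j u : ℕ) (hu : u < M) (h : dp_yi_10 j u = true) : Good (fa g) T MG M (cP g H) Lt.yi u := by
  unfold dp_yi_10 at h
  rcases brec_true h with h | h
  · exact lS_good (T := T) (x := Lt.yi) (by decide) hu [Lt.z, Lt.y, Lt.x, Lt.y, Lt.x, Lt.y, Lt.y, Lt.x, Lt.yi, Lt.xi, Lt.xi, Lt.z, Lt.y, Lt.xi, Lt.yi, Lt.yi, Lt.xi, Lt.yi, Lt.xi] (hole_rel hinv hr (by decide +kernel)) h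
  · exact lS_good (T := T) (x := Lt.yi) (by decide) hu [Lt.yi, Lt.z, Lt.y, Lt.y, Lt.y, Lt.x, Lt.y, Lt.x, Lt.y, Lt.x, Lt.yi, Lt.xi, Lt.yi, Lt.xi, Lt.yi, Lt.yi, Lt.yi, Lt.z, Lt.y, Lt.y, Lt.y, Lt.x, Lt.y, Lt.x, Lt.y, Lt.x, Lt.yi, Lt.xi, Lt.yi, Lt.xi, Lt.yi, Lt.yi, Lt.yi, Lt.z, Lt.y, Lt.y, Lt.y, Lt.x, Lt.y, Lt.x, Lt.y, Lt.x, Lt.z, Lt.yi, Lt.xi, Lt.yi, Lt.xi, Lt.yi] (hole_rel hinv hr (by decide +kernel)) h
theorem dp_yi_11_s (hinv : ∀ x, g (inv x) = (g x)⁻¹) (hr : ∀ r ∈ rels, (r.map g).prod = 1) (hH : ∀ r ∈ subs, (r.map g).prod ∈ H)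
    (j u : ℕ) (hu : u < M) (h : dp_yi_11 j u = true) : Good (fa g) T MG M (cP g H) Lt.yi u := by
  unfold dp_yi_11 at h
  rcases brec_true h with h | h
  · exact lS_good (T := T) (x := Lt.yi) (by decide) hu [Lt.yi, Lt.yi, Lt.xi, Lt.yi, Lt.xi, Lt.yi, Lt.yi, Lt.yi, Lt.xi, Lt.yi, Lt.xi, Lt.yi, Lt.yi, Lt.yi, Lt.xi, Lt.yi, Lt.xi, Lt.yi, Lt.yi, Lt.yi, Lt.xi, Lt.yi, Lt.xi] (hole_rel hinv hr (by decide +kernel)) h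
  · exact dp_yi_10_s hinv hr hH j u hu h
theorem dp_yi_12_s (hinv : ∀ x, g (inv x) = (g x)⁻¹) (hr : ∀ r ∈ rels, (r.map g).prod = 1) (hH : ∀ r ∈ subs, (r.map g).prod ∈ H)
    (j u : ℕ) (hu : u < M) (h : dp_yi_12 j u = true) : Good (fa g) T MG M (cP g H) Lt.yi u := by
  unfold dp_yi_12 at h
  rcases brec_true h with h | h
  · exact dp_yi_9_s hinv hr hH j u hu h
  · exact dp_yi_11_s hinv hr hH j u hu h
theorem dp_yi_13_s (hinv : ∀ x, g (inv x) = (g x)⁻¹) (hr : ∀ r ∈ rels, (r.map g).prod = 1) (hH : ∀ r ∈ subs, (r.map g).prod ∈ H)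
    (j u : ℕ) (hu : u < M) (h : dp_yi_13 j u = true) : Good (fa g) T MG M (cP g H) Lt.yi u := by
  unfold dp_yi_13 at h
  rcases brec_true h with h | h
  · exact dp_yi_8_s hinv hr hH j u hu h
  · exact dp_yi_12_s hinv hr hH j u hu h
theorem dp_yi_14_s (hinv : ∀ x, g (inv x) = (g x)⁻¹) (hr : ∀ r ∈ rels, (r.map g).prod = 1) (hH : ∀ r ∈ subs, (r.map g).prod ∈ H)
    (j u : ℕ) (hu : u < M) (h : dp_yi_14 j u = true) : Good (fa g) T MG M (cP g H) Lt.yi u := by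
  unfold dp_yi_14 at h
  rcases brec_true h with h | h
  · exact dp_yi_6_s hinv hr hH j u hu h
  · exact dp_yi_13_s hinv hr hH j u hu h
theorem dp_yi_15_s (hinv : ∀ x, g (inv x) = (g x)⁻¹) (hr : ∀ r ∈ rels, (r.map g).prod = 1) (hH : ∀ r ∈ subs, (r.map g).prod ∈ H)
    (j u : ℕ) (hu : u < M) (h : dp_yi_15 j u = true) : Good (fa g) T MG M (cP g H) Lt.yi u := by
  unfold dp_yi_15 at h
  rcases brec_true h with h | h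
  · exact dp_yi_4_s hinv hr hH j u hu h
  · exact dp_yi_14_s hinv hr hH j u hu h
theorem dp_yi_16_s (hinv : ∀ x, g (inv x) = (g x)⁻¹) (hr : ∀ r ∈ rels, (r.map g).prod = 1) (hH : ∀ r ∈ subs, (r.map g).prod ∈ H)
    (j u : ℕ) (hu : u < M) (h : dp_yi_16 j u = true) : Good (fa g) T MG M (cP g H) Lt.yi u := by
  unfold dp_yi_16 at h
  rcases brec_true h with h | h
  · exact dp_yi_1_s hinv hr hH j u hu h
  · exact dp_yi_15_s hinv hr hH j u hu h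
theorem dp_yi_17_s (hinv : ∀ x, g (inv x) = (g x)⁻¹) (hr : ∀ r ∈ rels, (r.map g).prod = 1) (hH : ∀ r ∈ subs, (r.map g).prod ∈ H)
    (j u : ℕ) (hu : u < M) (h : dp_yi_17 j u = true) : Good (fa g) T MG M (cP g H) Lt.yi u := by
  unfold dp_yi_17 at h
  rcases brec_true h with h | h
  · exact lF_good (T := T) (x := Lt.yi) (by decide) [Lt.xi, Lt.y, Lt.x, Lt.yi, Lt.xi, Lt.y, Lt.x, Lt.yi, Lt.xi, Lt.y, Lt.x] (hole_rel hinv hr (by decide +kernel)) h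
  · exact dp_yi_16_s hinv hr hH j u hu h
theorem dp_yi_18_s (hinv : ∀ x, g (inv x) = (g x)⁻¹) (hr : ∀ r ∈ rels, (r.map g).prod = 1) (hH : ∀ r ∈ subs, (r.map g).prod ∈ H)
    (j u : ℕ) (hu : u < M) (h : dp_yi_18 j u = true) : Good (fa g) T MG M (cP g H) Lt.yi u := by
  unfold dp_yi_18 at h
  rcases brec_true h with h | h
  · exact lS_good (T := T) (x := Lt.yi) (by decide) hu [Lt.y] (hole_rel hinv hr (by decide +kernel)) h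
  · exact dp_yi_17_s hinv hr hH j u hu h
theorem dp_yi_19_s (hinv : ∀ x, g (inv x) = (g x)⁻¹) (hr : ∀ r ∈ rels, (r.map g).prod = 1) (hH : ∀ r ∈ subs, (r.map g).prod ∈ H)
    (j u : ℕ) (hu : u < M) (h : dp_yi_19 j u = true) : Good (fa g) T MG M (cP g H) Lt.yi u := by
  unfold dp_yi_19 at h
  rcases brec_true h with h | h
  · exact lF1_good (T := T) (x := Lt.yi) (by decide) .y (hole_rel hinv hr (by decide +kernel)) h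
  · exact dp_yi_18_s hinv hr hH j u hu h
theorem dp_yi_20_s (hinv : ∀ x, g (inv x) = (g x)⁻¹) (hr : ∀ r ∈ rels, (r.map g).prod = 1) (hH : ∀ r ∈ subs, (r.map g).prod ∈ H)
    (j u : ℕ) (hu : u < M) (h : dp_yi_20 j u = true) : Good (fa g) T MG M (cP g H) Lt.yi u := by
  unfold dp_yi_20 at h
  rcases brec_true h with h | h
  · exact dp_yi_0_s hinv hr hH j u hu h
  · exact dp_yi_19_s hinv hr hH j u hu h
theorem dp_yi_21_s (hinv : ∀ x, g (inv x) = (g x)⁻¹) (hr : ∀ r ∈ rels, (r.map g).prod = 1) (hH : ∀ r ∈ subs, (r.map g).prod ∈ H)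
    (j u : ℕ) (hu : u < M) (h : dp_yi_21 j u = true) : Good (fa g) T MG M (cP g H) Lt.yi u := by
  unfold dp_yi_21 at h
  rcases brec_true h with h | h
  · exact lDef_good (T := T) (x := Lt.yi) (by decide) rfl h
  · exact dp_yi_20_s hinv hr hH j u hu h
theorem snd_yi (hinv : ∀ x, g (inv x) = (g x)⁻¹) (hr : ∀ r ∈ rels, (r.map g).prod = 1) (hH : ∀ r ∈ subs, (r.map g).prod ∈ H)
    (j u : ℕ) (hu : u < M) (h : disp_yi j u = true) : Good (fa g) T MG M (cP g H) Lt.yi u := by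
  unfold disp_yi at h
  rcases brec_true h with h | h
  · exact lPar_good (T := T) (x := Lt.yi) (x' := Lt.y) (by decide) rfl (inv_rel hinv _ _ rfl) h
  · exact dp_yi_21_s hinv hr hH j u hu h
theorem snc_yi (hinv : ∀ x, g (inv x) = (g x)⁻¹) (hr : ∀ r ∈ rels, (r.map g).prod = 1) (hH : ∀ r ∈ subs, (r.map g).prod ∈ H)
    (j u : ℕ) (hu : u < M) (h : chk_yi j u = true) : (T Lt.yi u < A ∧ Good (fa g) T MG M (cP g H) Lt.yi u) ∨ (A ≤ T Lt.yi u ∧ MG u < A) := by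
  unfold chk_yi at h
  cases hb : Nat.ble A (T_yi u) with
  | true => rw [hb] at h; exact Or.inr ⟨le_of_ble hb, le_of_ble h⟩
  | false => rw [hb] at h; exact Or.inl ⟨lt_of_ble_false hb, snd_yi hinv hr hH j u hu h⟩
theorem dp_z_0_s (hinv : ∀ x, g (inv x) = (g x)⁻¹) (hr : ∀ r ∈ rels, (r.map g).prod = 1) (hH : ∀ r ∈ subs, (r.map g).prod ∈ H)
    (j u : ℕ) (hu : u < M) (h : dp_z_0 j u = true) : Good (fa g) T MG M (cP g H) Lt.z u := by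
  unfold dp_z_0 at h
  rcases brec_true h with h | h
  · exact lF_good (T := T) (x := Lt.z) (by decide) [Lt.y, Lt.x, Lt.y, Lt.x, Lt.y, Lt.y, Lt.x, Lt.yi, Lt.xi, Lt.xi, Lt.z, Lt.y, Lt.xi, Lt.yi, Lt.yi, Lt.xi, Lt.yi, Lt.xi, Lt.yi] (hole_rel hinv hr (by decide +kernel)) h
  · exact lF_good (T := T) (x := Lt.z) (by decide) [Lt.y, Lt.x, Lt.y, Lt.x, Lt.y, Lt.y, Lt.x, Lt.yi, Lt.z, Lt.x, Lt.x, Lt.y, Lt.xi, Lt.yi, Lt.yi, Lt.xi, Lt.yi, Lt.xi, Lt.yi] (hole_rel hinv hr (by decide +kernel)) h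
theorem dp_z_1_s (hinv : ∀ x, g (inv x) = (g x)⁻¹) (hr : ∀ r ∈ rels, (r.map g).prod = 1) (hH : ∀ r ∈ subs, (r.map g).prod ∈ H)
    (j u : ℕ) (hu : u < M) (h : dp_z_1 j u = true) : Good (fa g) T MG M (cP g H) Lt.z u := by
  unfold dp_z_1 at h
  rcases brec_true h with h | h
  · exact lS_good (T := T) (x := Lt.z) (by decide) hu [Lt.z] (hole_rel hinv hr (by decide +kernel)) h
  · exact dp_z_0_s hinv hr hH j u hu h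
theorem snd_z (hinv : ∀ x, g (inv x) = (g x)⁻¹) (hr : ∀ r ∈ rels, (r.map g).prod = 1) (hH : ∀ r ∈ subs, (r.map g).prod ∈ H)
    (j u : ℕ) (hu : u < M) (h : disp_z j u = true) : Good (fa g) T MG M (cP g H) Lt.z u := by
  unfold disp_z at h
  rcases brec_true h with h | h
  · rcases brec_true h with h | h
    · exact lDef_good (T := T) (x := Lt.z) (by decide) rfl h
    · exact lPar_good (T := T) (x := Lt.z) (x' := Lt.z) (by decide) rfl (inv_rel hinv _ _ rfl) h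
  · rcases brec_true h with h | h
    · exact lF1_good (T := T) (x := Lt.z) (by decide) .z (hole_rel hinv hr (by decide +kernel)) h
    · rcases brec_true h with h | h
      · exact lF3_good (T := T) (x := Lt.z) (by decide) .xi .z .xi (hole_rel hinv hr (by decide +kernel)) h
      · rcases brec_true h with h | h
        · exact lF3_good (T := T) (x := Lt.z) (by decide) .x .z .x (hole_rel hinv hr (by decide +kernel)) h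
        · exact dp_z_1_s hinv hr hH j u hu h
theorem snc_z (hinv : ∀ x, g (inv x) = (g x)⁻¹) (hr : ∀ r ∈ rels, (r.map g).prod = 1) (hH : ∀ r ∈ subs, (r.map g).prod ∈ H)
    (j u : ℕ) (hu : u < M) (h : chk_z j u = true) : (T Lt.z u < A ∧ Good (fa g) T MG M (cP g H) Lt.z u) ∨ (A ≤ T Lt.z u ∧ MG u < A) := by
  unfold chk_z at h
  cases hb : Nat.ble A (T_z u) with
  | true => rw [hb] at h; exact Or.inr ⟨le_of_ble hb, le_of_ble h⟩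
  | false => rw [hb] at h; exact Or.inl ⟨lt_of_ble_false hb, snd_z hinv hr hH j u hu h⟩
theorem dM_0_s (hinv : ∀ x, g (inv x) = (g x)⁻¹) (hr : ∀ r ∈ rels, (r.map g).prod = 1) (j z1 z2 u : ℕ) (h : dM_0 j z1 z2 u = true) : GoodM (fa g) T MG M (cP g H) u := by
  unfold dM_0 at h
  exact mCo_good (T := T) (y := .x) (by decide) h
theorem dM_1_s (hinv : ∀ x, g (inv x) = (g x)⁻¹) (hr : ∀ r ∈ rels, (r.map g).prod = 1) (j z1 z2 u : ℕ) (h : dM_1 j z1 z2 u = true) : GoodM (fa g) T MG M (cP g H) u := by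
  unfold dM_1 at h
  exact mCo_good (T := T) (y := .y) (by decide) h
theorem dM_2_s (hinv : ∀ x, g (inv x) = (g x)⁻¹) (hr : ∀ r ∈ rels, (r.map g).prod = 1) (j z1 z2 u : ℕ) (h : dM_2 j z1 z2 u = true) : GoodM (fa g) T MG M (cP g H) u := by
  unfold dM_2 at h
  exact mCo_good (T := T) (y := .yi) (by decide) h
theorem dM_3_s (hinv : ∀ x, g (inv x) = (g x)⁻¹) (hr : ∀ r ∈ rels, (r.map g).prod = 1) (j z1 z2 u : ℕ) (h : dM_3 j z1 z2 u = true) : GoodM (fa g) T MG M (cP g H) u := by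
  unfold dM_3 at h
  exact mCo_good (T := T) (y := .z) (by decide) h
theorem dM_4_s (hinv : ∀ x, g (inv x) = (g x)⁻¹) (hr : ∀ r ∈ rels, (r.map g).prod = 1) (j z1 z2 u : ℕ) (h : dM_4 j z1 z2 u = true) : GoodM (fa g) T MG M (cP g H) u := by
  unfold dM_4 at h
  rcases brec_true h with h | h
  · exact mCo_good (T := T) (y := .xi) (by decide) h
  · rcases brec_true h with h | h
    · rcases brec_true h with h | h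
      · exact mRel_good (T := T) (by decide) [Lt.x, Lt.y, Lt.x, Lt.y, Lt.y, Lt.y, Lt.x, Lt.y, Lt.x, Lt.y, Lt.y, Lt.y] [Lt.yi, Lt.yi, Lt.yi, Lt.xi, Lt.yi, Lt.xi, Lt.yi, Lt.yi, Lt.yi, Lt.xi, Lt.yi, Lt.xi] (pair_rel hinv hr (by decide +kernel)) h
      · exact mRel_good (T := T) (by decide) [Lt.y, Lt.y, Lt.x, Lt.yi, Lt.xi, Lt.xi, Lt.z, Lt.y, Lt.xi, Lt.yi, Lt.yi] [Lt.xi, Lt.yi, Lt.xi, Lt.yi, Lt.z, Lt.y, Lt.x, Lt.y, Lt.x] (pair_rel hinv hr (by decide +kernel)) h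
    · rcases brec_true h with h | h
      · rcases brec_true h with h | h
        · exact mRel_good (T := T) (by decide) [Lt.y, Lt.y, Lt.y, Lt.x, Lt.y, Lt.x, Lt.y, Lt.y, Lt.y, Lt.x, Lt.y, Lt.x] [Lt.xi, Lt.yi, Lt.xi, Lt.yi, Lt.yi, Lt.yi, Lt.xi, Lt.yi, Lt.xi, Lt.yi, Lt.yi, Lt.yi] (pair_rel hinv hr (by decide +kernel)) h
        · exact mRel_good (T := T) (by decide) [Lt.y, Lt.xi, Lt.y, Lt.y, Lt.x, Lt.y, Lt.y, Lt.y, Lt.xi, Lt.y, Lt.y, Lt.x] [Lt.yi, Lt.yi, Lt.xi, Lt.yi, Lt.yi, Lt.x, Lt.yi, Lt.yi, Lt.yi] (pair_rel hinv hr (by decide +kernel)) h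
      · rcases brec_true h with h | h
        · exact mRel_good (T := T) (by decide) [Lt.yi, Lt.yi, Lt.yi, Lt.xi, Lt.yi, Lt.yi, Lt.x, Lt.yi, Lt.yi, Lt.yi, Lt.xi, Lt.yi] [Lt.xi, Lt.y, Lt.y, Lt.x, Lt.y, Lt.y, Lt.y, Lt.xi, Lt.y] (pair_rel hinv hr (by decide +kernel)) h
        · rcases brec_true h with h | h
          · exact mRel_good (T := T) (by decide) [Lt.y, Lt.x, Lt.y, Lt.y, Lt.y, Lt.x, Lt.y, Lt.x, Lt.y, Lt.y, Lt.y] [Lt.xi, Lt.yi, Lt.yi, Lt.yi, Lt.xi, Lt.yi, Lt.xi, Lt.yi, Lt.yi, Lt.yi, Lt.xi, Lt.yi, Lt.xi] (pair_rel hinv hr (by decide +kernel)) h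
          · exact mRel_good (T := T) (by decide) [Lt.y, Lt.x, Lt.y, Lt.x, Lt.y, Lt.x, Lt.y, Lt.x] [Lt.xi, Lt.yi, Lt.xi, Lt.yi, Lt.xi, Lt.yi, Lt.xi, Lt.yi] (pair_rel hinv hr (by decide +kernel)) h
theorem dM_5_s (hinv : ∀ x, g (inv x) = (g x)⁻¹) (hr : ∀ r ∈ rels, (r.map g).prod = 1) (j z1 z2 u : ℕ) (h : dM_5 j z1 z2 u = true) : GoodM (fa g) T MG M (cP g H) u := by
  unfold dM_5 at h
  rcases brec_true h with h | h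
  · rcases brec_true h with h | h
    · rcases brec_true h with h | h
      · exact mRel_good (T := T) (by decide) [Lt.xi, Lt.yi, Lt.xi, Lt.yi, Lt.yi, Lt.yi, Lt.xi, Lt.yi, Lt.xi, Lt.yi, Lt.yi, Lt.yi, Lt.xi, Lt.yi, Lt.xi] [Lt.y, Lt.y, Lt.y, Lt.x, Lt.y, Lt.x, Lt.y, Lt.y, Lt.y] (pair_rel hinv hr (by decide +kernel)) h
      · exact mRel_good (T := T) (by decide) [Lt.y, Lt.x, Lt.yi, Lt.xi, Lt.xi, Lt.z, Lt.y, Lt.xi, Lt.yi, Lt.yi] [Lt.yi, Lt.xi, Lt.yi, Lt.xi, Lt.yi, Lt.z, Lt.y, Lt.x, Lt.y, Lt.x] (pair_rel hinv hr (by decide +kernel)) h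
    · rcases brec_true h with h | h
      · exact mRel_good (T := T) (by decide) [Lt.x, Lt.y, Lt.x, Lt.y, Lt.y, Lt.y, Lt.x, Lt.y, Lt.x, Lt.y, Lt.y, Lt.y, Lt.x, Lt.y, Lt.x] [Lt.yi, Lt.yi, Lt.yi, Lt.xi, Lt.yi, Lt.xi, Lt.yi, Lt.yi, Lt.yi] (pair_rel hinv hr (by decide +kernel)) h
      · exact mRel_good (T := T) (by decide) [Lt.yi, Lt.xi, Lt.yi, Lt.xi, Lt.yi, Lt.xi, Lt.yi, Lt.xi] [Lt.x, Lt.y, Lt.x, Lt.y, Lt.x, Lt.y, Lt.x, Lt.y] (pair_rel hinv hr (by decide +kernel)) h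
  · rcases brec_true h with h | h
    · rcases brec_true h with h | h
      · exact mRel_good (T := T) (by decide) [Lt.x, Lt.y, Lt.y, Lt.x, Lt.yi, Lt.xi, Lt.xi, Lt.z, Lt.y, Lt.xi, Lt.yi, Lt.yi] [Lt.yi, Lt.xi, Lt.yi, Lt.z, Lt.y, Lt.x, Lt.y, Lt.x] (pair_rel hinv hr (by decide +kernel)) h
      · rcases brec_true h with h | h
        · exact mRel_good (T := T) (by decide) [Lt.x, Lt.y, Lt.y, Lt.y, Lt.xi, Lt.y, Lt.y, Lt.x, Lt.y, Lt.y, Lt.y, Lt.xi, Lt.y, Lt.y, Lt.x] [Lt.yi, Lt.yi, Lt.x, Lt.yi, Lt.yi, Lt.yi] (pair_rel hinv hr (by decide +kernel)) h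
        · exact mRel_good (T := T) (by decide) [Lt.yi, Lt.xi, Lt.yi, Lt.xi, Lt.yi, Lt.z, Lt.y, Lt.x, Lt.y, Lt.x] [Lt.y, Lt.x, Lt.yi, Lt.z, Lt.x, Lt.x, Lt.y, Lt.xi, Lt.yi, Lt.yi] (pair_rel hinv hr (by decide +kernel)) h
    · rcases brec_true h with h | h
      · exact mRel_good (T := T) (by decide) [Lt.yi, Lt.xi, Lt.yi, Lt.xi, Lt.yi, Lt.xi] [Lt.x, Lt.y, Lt.x, Lt.y, Lt.x, Lt.y, Lt.x, Lt.y, Lt.x, Lt.y] (pair_rel hinv hr (by decide +kernel)) h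
      · rcases brec_true h with h | h
        · exact mRel_good (T := T) (by decide) [Lt.x, Lt.yi, Lt.yi, Lt.yi, Lt.xi, Lt.yi, Lt.yi, Lt.x, Lt.yi, Lt.yi, Lt.yi, Lt.xi, Lt.yi, Lt.yi, Lt.x] [Lt.y, Lt.y, Lt.x, Lt.y, Lt.y, Lt.y] (pair_rel hinv hr (by decide +kernel)) h
        · exact mRel_good (T := T) (by decide) [Lt.x, Lt.y, Lt.y, Lt.y, Lt.xi, Lt.y, Lt.y, Lt.x, Lt.y] [Lt.yi, Lt.yi, Lt.x, Lt.yi, Lt.yi, Lt.yi, Lt.xi, Lt.yi, Lt.yi, Lt.x, Lt.yi, Lt.yi] (pair_rel hinv hr (by decide +kernel)) h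
theorem dM_6_s (hinv : ∀ x, g (inv x) = (g x)⁻¹) (hr : ∀ r ∈ rels, (r.map g).prod = 1) (j z1 z2 u : ℕ) (h : dM_6 j z1 z2 u = true) : GoodM (fa g) T MG M (cP g H) u := by
  unfold dM_6 at h
  rcases brec_true h with h | h
  · rcases brec_true h with h | h
    · exact mRel_good (T := T) (by decide) [Lt.y, Lt.x, Lt.y, Lt.x, Lt.y, Lt.x, Lt.y, Lt.x, Lt.y, Lt.x, Lt.y, Lt.x] [Lt.xi, Lt.yi, Lt.xi, Lt.yi] (pair_rel hinv hr (by decide +kernel)) h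
    · rcases brec_true h with h | h
      · exact mRel_good (T := T) (by decide) [Lt.yi, Lt.x, Lt.yi, Lt.yi, Lt.yi, Lt.xi, Lt.yi, Lt.yi, Lt.x] [Lt.y, Lt.x, Lt.y, Lt.y, Lt.y, Lt.xi, Lt.y, Lt.y, Lt.x, Lt.y, Lt.y, Lt.y] (pair_rel hinv hr (by decide +kernel)) h
      · exact mRel_good (T := T) (by decide) [Lt.y, Lt.x, Lt.y, Lt.y, Lt.y, Lt.xi, Lt.y, Lt.y, Lt.x, Lt.y, Lt.y, Lt.y, Lt.xi, Lt.y] [Lt.yi, Lt.x, Lt.yi, Lt.yi, Lt.yi, Lt.xi, Lt.yi] (pair_rel hinv hr (by decide +kernel)) h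
  · rcases brec_true h with h | h
    · rcases brec_true h with h | h
      · exact mRel_good (T := T) (by decide) [Lt.y, Lt.x, Lt.y, Lt.x, Lt.y, Lt.x, Lt.y, Lt.x, Lt.y, Lt.x] [Lt.xi, Lt.yi, Lt.xi, Lt.yi, Lt.xi, Lt.yi] (pair_rel hinv hr (by decide +kernel)) h
      · exact mRel_good (T := T) (by decide) [Lt.y, Lt.y, Lt.xi, Lt.y, Lt.y, Lt.x, Lt.y, Lt.y, Lt.y, Lt.xi, Lt.y] [Lt.yi, Lt.xi, Lt.yi, Lt.yi, Lt.x, Lt.yi, Lt.yi, Lt.yi, Lt.xi, Lt.yi] (pair_rel hinv hr (by decide +kernel)) h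
    · rcases brec_true h with h | h
      · exact mRel_good (T := T) (by decide) [Lt.yi, Lt.x, Lt.yi, Lt.yi, Lt.yi, Lt.xi, Lt.yi, Lt.yi, Lt.x, Lt.yi, Lt.yi, Lt.yi, Lt.xi, Lt.yi] [Lt.y, Lt.x, Lt.y, Lt.y, Lt.y, Lt.xi, Lt.y] (pair_rel hinv hr (by decide +kernel)) h
      · exact mRel_good (T := T) (by decide) [Lt.x, Lt.yi, Lt.xi, Lt.xi, Lt.z, Lt.y, Lt.xi] [Lt.yi, Lt.yi, Lt.xi, Lt.yi, Lt.xi, Lt.yi, Lt.z, Lt.y, Lt.x, Lt.y, Lt.x, Lt.y, Lt.y] (pair_rel hinv hr (by decide +kernel)) h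
theorem dM_7_s (hinv : ∀ x, g (inv x) = (g x)⁻¹) (hr : ∀ r ∈ rels, (r.map g).prod = 1) (j z1 z2 u : ℕ) (h : dM_7 j z1 z2 u = true) : GoodM (fa g) T MG M (cP g H) u := by
  unfold dM_7 at h
  rcases brec_true h with h | h
  · rcases brec_true h with h | h
    · exact mRel_good (T := T) (by decide) [Lt.yi, Lt.yi, Lt.xi, Lt.yi, Lt.xi, Lt.yi, Lt.z, Lt.y, Lt.x, Lt.y, Lt.x] [Lt.x, Lt.yi, Lt.z, Lt.x, Lt.x, Lt.y, Lt.xi, Lt.yi, Lt.yi] (pair_rel hinv hr (by decide +kernel)) h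
    · rcases brec_true h with h | h
      · exact mRel_good (T := T) (by decide) [Lt.xi, Lt.yi, Lt.xi, Lt.yi, Lt.yi, Lt.yi, Lt.xi, Lt.yi, Lt.xi, Lt.yi, Lt.yi, Lt.yi, Lt.xi, Lt.yi, Lt.xi, Lt.yi, Lt.yi, Lt.yi] [Lt.y, Lt.y, Lt.y, Lt.x, Lt.y, Lt.x] (pair_rel hinv hr (by decide +kernel)) h
      · exact mRel_good (T := T) (by decide) [Lt.y, Lt.xi, Lt.y, Lt.y, Lt.x, Lt.y, Lt.y, Lt.y, Lt.xi, Lt.y] [Lt.yi, Lt.yi, Lt.xi, Lt.yi, Lt.yi, Lt.x, Lt.yi, Lt.yi, Lt.yi, Lt.xi, Lt.yi] (pair_rel hinv hr (by decide +kernel)) h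
  · rcases brec_true h with h | h
    · rcases brec_true h with h | h
      · exact mRel_good (T := T) (by decide) [Lt.yi, Lt.xi, Lt.yi, Lt.xi, Lt.yi, Lt.xi, Lt.yi, Lt.xi, Lt.yi, Lt.xi, Lt.yi, Lt.xi] [Lt.x, Lt.y, Lt.x, Lt.y] (pair_rel hinv hr (by decide +kernel)) h
      · exact mRel_good (T := T) (by decide) [Lt.x, Lt.y, Lt.y, Lt.y, Lt.x, Lt.y, Lt.x] [Lt.yi, Lt.xi, Lt.yi, Lt.yi, Lt.yi, Lt.xi, Lt.yi, Lt.xi, Lt.yi, Lt.yi, Lt.yi, Lt.xi, Lt.yi, Lt.xi, Lt.yi, Lt.yi, Lt.yi] (pair_rel hinv hr (by decide +kernel)) h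
    · rcases brec_true h with h | h
      · exact mRel_good (T := T) (by decide) [Lt.x, Lt.yi, Lt.xi, Lt.xi, Lt.z, Lt.y, Lt.xi, Lt.yi, Lt.yi] [Lt.yi, Lt.yi, Lt.xi, Lt.yi, Lt.xi, Lt.yi, Lt.z, Lt.y, Lt.x, Lt.y, Lt.x] (pair_rel hinv hr (by decide +kernel)) h
      · exact mRel_good (T := T) (by decide) [Lt.x, Lt.y, Lt.x, Lt.y, Lt.y, Lt.x, Lt.yi, Lt.xi, Lt.xi, Lt.z, Lt.y, Lt.xi, Lt.yi, Lt.yi] [Lt.yi, Lt.z, Lt.y, Lt.x, Lt.y, Lt.x] (pair_rel hinv hr (by decide +kernel)) h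
theorem dM_8_s (hinv : ∀ x, g (inv x) = (g x)⁻¹) (hr : ∀ r ∈ rels, (r.map g).prod = 1) (j z1 z2 u : ℕ) (h : dM_8 j z1 z2 u = true) : GoodM (fa g) T MG M (cP g H) u := by
  unfold dM_8 at h
  rcases brec_true h with h | h
  · exact dM_6_s hinv hr j z1 z2 u h
  · exact dM_7_s hinv hr j z1 z2 u h
theorem dM_9_s (hinv : ∀ x, g (inv x) = (g x)⁻¹) (hr : ∀ r ∈ rels, (r.map g).prod = 1) (j z1 z2 u : ℕ) (h : dM_9 j z1 z2 u = true) : GoodM (fa g) T MG M (cP g H) u := by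
  unfold dM_9 at h
  rcases brec_true h with h | h
  · exact dM_5_s hinv hr j z1 z2 u h
  · exact dM_8_s hinv hr j z1 z2 u h
theorem dM_10_s (hinv : ∀ x, g (inv x) = (g x)⁻¹) (hr : ∀ r ∈ rels, (r.map g).prod = 1) (j z1 z2 u : ℕ) (h : dM_10 j z1 z2 u = true) : GoodM (fa g) T MG M (cP g H) u := by
  unfold dM_10 at h
  rcases brec_true h with h | h
  · rcases brec_true h with h | h
    · exact mRel_good (T := T) (by decide) [Lt.yi, Lt.xi, Lt.yi, Lt.yi, Lt.yi, Lt.xi, Lt.yi, Lt.xi, Lt.yi, Lt.yi, Lt.yi] [Lt.x, Lt.y, Lt.y, Lt.y, Lt.x, Lt.y, Lt.x, Lt.y, Lt.y, Lt.y, Lt.x, Lt.y, Lt.x] (pair_rel hinv hr (by decide +kernel)) h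
    · rcases brec_true h with h | h
      · exact mRel_good (T := T) (by decide) [Lt.x, Lt.y, Lt.x, Lt.y, Lt.x, Lt.y, Lt.x] [Lt.yi, Lt.xi, Lt.yi, Lt.xi, Lt.yi, Lt.xi, Lt.yi, Lt.xi, Lt.yi] (pair_rel hinv hr (by decide +kernel)) h
      · exact mRel_good (T := T) (by decide) [Lt.xi, Lt.yi, Lt.xi, Lt.yi, Lt.xi, Lt.yi, Lt.xi, Lt.yi, Lt.xi, Lt.yi, Lt.xi] [Lt.y, Lt.x, Lt.y, Lt.x, Lt.y] (pair_rel hinv hr (by decide +kernel)) h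
  · rcases brec_true h with h | h
    · rcases brec_true h with h | h
      · exact mRel_good (T := T) (by decide) [Lt.yi, Lt.xi, Lt.yi, Lt.z, Lt.y, Lt.x, Lt.y, Lt.x, Lt.y, Lt.y] [Lt.x, Lt.y, Lt.y, Lt.x, Lt.yi, Lt.z, Lt.x, Lt.x, Lt.y, Lt.xi] (pair_rel hinv hr (by decide +kernel)) h
      · exact mRel_good (T := T) (by decide) [Lt.y, Lt.x, Lt.y, Lt.x, Lt.y, Lt.y, Lt.y] [Lt.yi, Lt.yi, Lt.xi, Lt.yi, Lt.xi, Lt.yi, Lt.yi, Lt.yi, Lt.xi, Lt.yi, Lt.xi, Lt.yi, Lt.yi, Lt.yi, Lt.xi, Lt.yi, Lt.xi] (pair_rel hinv hr (by decide +kernel)) h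
    · rcases brec_true h with h | h
      · exact mRel_good (T := T) (by decide) [Lt.xi, Lt.yi, Lt.xi, Lt.yi, Lt.yi, Lt.yi, Lt.xi, Lt.yi, Lt.xi] [Lt.y, Lt.y, Lt.y, Lt.x, Lt.y, Lt.x, Lt.y, Lt.y, Lt.y, Lt.x, Lt.y, Lt.x, Lt.y, Lt.y, Lt.y] (pair_rel hinv hr (by decide +kernel)) h
      · rcases brec_true h with h | h
        · exact mRel_good (T := T) (by decide) [Lt.y, Lt.y, Lt.y, Lt.x, Lt.y, Lt.x, Lt.y, Lt.y, Lt.y, Lt.x, Lt.y, Lt.x, Lt.y, Lt.y, Lt.y] [Lt.xi, Lt.yi, Lt.xi, Lt.yi, Lt.yi, Lt.yi, Lt.xi, Lt.yi, Lt.xi] (pair_rel hinv hr (by decide +kernel)) h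
        · exact mRel_good (T := T) (by decide) [Lt.yi, Lt.yi, Lt.yi, Lt.xi, Lt.yi, Lt.yi, Lt.x] [Lt.xi, Lt.y, Lt.y, Lt.x, Lt.y, Lt.y, Lt.y, Lt.xi, Lt.y, Lt.y, Lt.x, Lt.y, Lt.y, Lt.y] (pair_rel hinv hr (by decide +kernel)) h
theorem dM_11_s (hinv : ∀ x, g (inv x) = (g x)⁻¹) (hr : ∀ r ∈ rels, (r.map g).prod = 1) (j z1 z2 u : ℕ) (h : dM_11 j z1 z2 u = true) : GoodM (fa g) T MG M (cP g H) u := by
  unfold dM_11 at h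
  rcases brec_true h with h | h
  · rcases brec_true h with h | h
    · rcases brec_true h with h | h
      · exact mRel_good (T := T) (by decide) [Lt.y, Lt.y, Lt.x, Lt.y, Lt.y, Lt.y, Lt.xi, Lt.y, Lt.y, Lt.x] [Lt.x, Lt.yi, Lt.yi, Lt.yi, Lt.xi, Lt.yi, Lt.yi, Lt.x, Lt.yi, Lt.yi, Lt.yi] (pair_rel hinv hr (by decide +kernel)) h
      · exact mRel_good (T := T) (by decide) [Lt.x, Lt.y, Lt.y, Lt.y, Lt.xi, Lt.y, Lt.y, Lt.x, Lt.y, Lt.y, Lt.y, Lt.xi, Lt.y, Lt.y, Lt.x, Lt.y, Lt.y, Lt.y] [Lt.yi, Lt.yi, Lt.x] (pair_rel hinv hr (by decide +kernel)) h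
    · rcases brec_true h with h | h
      · exact mRel_good (T := T) (by decide) [Lt.y, Lt.x, Lt.y, Lt.y, Lt.x, Lt.yi, Lt.xi, Lt.xi, Lt.z, Lt.y, Lt.xi] [Lt.xi, Lt.yi, Lt.z, Lt.y, Lt.x, Lt.y, Lt.x, Lt.y, Lt.y] (pair_rel hinv hr (by decide +kernel)) h
      · rcases brec_true h with h | h
        · exact mRel_good (T := T) (by decide) [Lt.xi, Lt.yi, Lt.yi, Lt.x, Lt.yi, Lt.yi, Lt.yi] [Lt.y, Lt.y, Lt.y, Lt.xi, Lt.y, Lt.y, Lt.x, Lt.y, Lt.y, Lt.y, Lt.xi, Lt.y, Lt.y, Lt.x] (pair_rel hinv hr (by decide +kernel)) h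
        · exact mRel_good (T := T) (by decide) [Lt.yi, Lt.x, Lt.yi, Lt.yi, Lt.yi, Lt.xi, Lt.yi, Lt.yi, Lt.x, Lt.yi, Lt.yi, Lt.yi, Lt.xi, Lt.yi, Lt.yi, Lt.x] [Lt.y, Lt.x, Lt.y, Lt.y, Lt.y] (pair_rel hinv hr (by decide +kernel)) h
  · rcases brec_true h with h | h
    · rcases brec_true h with h | h
      · exact mRel_good (T := T) (by decide) [Lt.y, Lt.x, Lt.y, Lt.x, Lt.y, Lt.y, Lt.y, Lt.x, Lt.y, Lt.x, Lt.y, Lt.y, Lt.y] [Lt.yi, Lt.yi, Lt.xi, Lt.yi, Lt.xi, Lt.yi, Lt.yi, Lt.yi, Lt.xi, Lt.yi, Lt.xi] (pair_rel hinv hr (by decide +kernel)) h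
      · rcases brec_true h with h | h
        · exact mRel_good (T := T) (by decide) [Lt.yi, Lt.x, Lt.yi, Lt.yi, Lt.yi] [Lt.y, Lt.x, Lt.y, Lt.y, Lt.y, Lt.xi, Lt.y, Lt.y, Lt.x, Lt.y, Lt.y, Lt.y, Lt.xi, Lt.y, Lt.y, Lt.x] (pair_rel hinv hr (by decide +kernel)) h
        · exact mRel_good (T := T) (by decide) [Lt.xi, Lt.y, Lt.y, Lt.x, Lt.y, Lt.y, Lt.y, Lt.xi, Lt.y, Lt.y, Lt.x, Lt.y, Lt.y, Lt.y] [Lt.yi, Lt.yi, Lt.yi, Lt.xi, Lt.yi, Lt.yi, Lt.x] (pair_rel hinv hr (by decide +kernel)) h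
    · rcases brec_true h with h | h
      · exact mRel_good (T := T) (by decide) [Lt.xi, Lt.y, Lt.y, Lt.x, Lt.y, Lt.y, Lt.y, Lt.xi, Lt.y, Lt.y] [Lt.yi, Lt.yi, Lt.yi, Lt.xi, Lt.yi, Lt.yi, Lt.x, Lt.yi, Lt.yi, Lt.yi, Lt.xi] (pair_rel hinv hr (by decide +kernel)) h
      · rcases brec_true h with h | h
        · exact mRel_good (T := T) (by decide) [Lt.xi, Lt.yi, Lt.yi, Lt.x, Lt.yi, Lt.yi, Lt.yi, Lt.xi, Lt.yi] [Lt.y, Lt.y, Lt.y, Lt.xi, Lt.y, Lt.y, Lt.x, Lt.y, Lt.y, Lt.y, Lt.xi, Lt.y] (pair_rel hinv hr (by decide +kernel)) h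
        · exact mRel_good (T := T) (by decide) [Lt.yi, Lt.xi, Lt.yi, Lt.yi, Lt.yi, Lt.xi, Lt.yi, Lt.xi, Lt.yi, Lt.yi, Lt.yi, Lt.xi, Lt.yi, Lt.xi] [Lt.x, Lt.y, Lt.y, Lt.y, Lt.x, Lt.y, Lt.x, Lt.y, Lt.y, Lt.y] (pair_rel hinv hr (by decide +kernel)) h
theorem dM_12_s (hinv : ∀ x, g (inv x) = (g x)⁻¹) (hr : ∀ r ∈ rels, (r.map g).prod = 1) (j z1 z2 u : ℕ) (h : dM_12 j z1 z2 u = true) : GoodM (fa g) T MG M (cP g H) u := by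
  unfold dM_12 at h
  rcases brec_true h with h | h
  · exact dM_10_s hinv hr j z1 z2 u h
  · exact dM_11_s hinv hr j z1 z2 u h
theorem dM_13_s (hinv : ∀ x, g (inv x) = (g x)⁻¹) (hr : ∀ r ∈ rels, (r.map g).prod = 1) (j z1 z2 u : ℕ) (h : dM_13 j z1 z2 u = true) : GoodM (fa g) T MG M (cP g H) u := by
  unfold dM_13 at h
  rcases brec_true h with h | h
  · rcases brec_true h with h | h
    · rcases brec_true h with h | h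
      · exact mRel_good (T := T) (by decide) [Lt.x, Lt.y, Lt.y, Lt.y, Lt.x, Lt.y, Lt.x, Lt.y, Lt.y, Lt.y, Lt.x, Lt.y, Lt.x] [Lt.yi, Lt.xi, Lt.yi, Lt.yi, Lt.yi, Lt.xi, Lt.yi, Lt.xi, Lt.yi, Lt.yi, Lt.yi] (pair_rel hinv hr (by decide +kernel)) h
      · exact mRel_good (T := T) (by decide) [Lt.yi, Lt.xi, Lt.yi, Lt.yi, Lt.x, Lt.yi, Lt.yi, Lt.yi, Lt.xi, Lt.yi] [Lt.y, Lt.y, Lt.xi, Lt.y, Lt.y, Lt.x, Lt.y, Lt.y, Lt.y, Lt.xi, Lt.y] (pair_rel hinv hr (by decide +kernel)) h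
    · rcases brec_true h with h | h
      · exact mRel_good (T := T) (by decide) [Lt.y, Lt.y, Lt.x, Lt.y, Lt.y, Lt.y, Lt.xi, Lt.y, Lt.y, Lt.x, Lt.y, Lt.y, Lt.y, Lt.xi, Lt.y, Lt.y, Lt.x, Lt.y, Lt.y, Lt.y] [Lt.x] (pair_rel hinv hr (by decide +kernel)) h
      · rcases brec_true h with h | h
        · exact mRel_good (T := T) (by decide) [Lt.y, Lt.y, Lt.y, Lt.x, Lt.y, Lt.x, Lt.y, Lt.y, Lt.y, Lt.x, Lt.y, Lt.x, Lt.y, Lt.y, Lt.y, Lt.x, Lt.y, Lt.x] [Lt.xi, Lt.yi, Lt.xi, Lt.yi, Lt.yi, Lt.yi] (pair_rel hinv hr (by decide +kernel)) h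
        · exact mRel_good (T := T) (by decide) [Lt.yi, Lt.yi, Lt.x, Lt.yi, Lt.yi, Lt.yi, Lt.xi, Lt.yi, Lt.yi, Lt.x, Lt.yi, Lt.yi, Lt.yi, Lt.xi, Lt.yi, Lt.yi, Lt.x] [Lt.x, Lt.y, Lt.y, Lt.y] (pair_rel hinv hr (by decide +kernel)) h
  · rcases brec_true h with h | h
    · rcases brec_true h with h | h
      · exact mRel_good (T := T) (by decide) [Lt.yi, Lt.xi, Lt.yi, Lt.xi, Lt.yi, Lt.yi, Lt.yi, Lt.xi, Lt.yi, Lt.xi, Lt.yi, Lt.yi, Lt.yi] [Lt.y, Lt.y, Lt.x, Lt.y, Lt.x, Lt.y, Lt.y, Lt.y, Lt.x, Lt.y, Lt.x] (pair_rel hinv hr (by decide +kernel)) h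
      · exact mRel_good (T := T) (by decide) [Lt.y, Lt.y, Lt.y, Lt.xi, Lt.y, Lt.y, Lt.x, Lt.y, Lt.y, Lt.y] [Lt.xi, Lt.yi, Lt.yi, Lt.x, Lt.yi, Lt.yi, Lt.yi, Lt.xi, Lt.yi, Lt.yi, Lt.x] (pair_rel hinv hr (by decide +kernel)) h
    · rcases brec_true h with h | h
      · exact mRel_good (T := T) (by decide) [Lt.y, Lt.x, Lt.y, Lt.y, Lt.x] [Lt.xi, Lt.yi, Lt.z, Lt.y, Lt.x, Lt.y, Lt.x, Lt.y, Lt.y, Lt.x, Lt.yi, Lt.z, Lt.x, Lt.x, Lt.y] (pair_rel hinv hr (by decide +kernel)) h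
      · rcases brec_true h with h | h
        · exact mRel_good (T := T) (by decide) [Lt.yi, Lt.xi, Lt.yi, Lt.z, Lt.y, Lt.x, Lt.y, Lt.x] [Lt.x, Lt.y, Lt.y, Lt.x, Lt.yi, Lt.z, Lt.x, Lt.x, Lt.y, Lt.xi, Lt.yi, Lt.yi] (pair_rel hinv hr (by decide +kernel)) h
        · exact mRel_good (T := T) (by decide) [Lt.y, Lt.xi, Lt.yi, Lt.yi, Lt.xi, Lt.yi, Lt.xi] [Lt.z, Lt.x, Lt.x, Lt.y, Lt.xi, Lt.yi, Lt.yi, Lt.xi, Lt.yi, Lt.xi, Lt.yi, Lt.z, Lt.y] (pair_rel hinv hr (by decide +kernel)) h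
theorem dM_14_s (hinv : ∀ x, g (inv x) = (g x)⁻¹) (hr : ∀ r ∈ rels, (r.map g).prod = 1) (j z1 z2 u : ℕ) (h : dM_14 j z1 z2 u = true) : GoodM (fa g) T MG M (cP g H) u := by
  unfold dM_14 at h
  rcases brec_true h with h | h
  · rcases brec_true h with h | h
    · rcases brec_true h with h | h
      · exact mRel_good (T := T) (by decide) [Lt.yi, Lt.x, Lt.yi] [Lt.y, Lt.x, Lt.y, Lt.y, Lt.y, Lt.xi, Lt.y, Lt.y, Lt.x, Lt.y, Lt.y, Lt.y, Lt.xi, Lt.y, Lt.y, Lt.x, Lt.y, Lt.y] (pair_rel hinv hr (by decide +kernel)) h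
      · exact mRel_good (T := T) (by decide) [Lt.xi, Lt.yi, Lt.xi, Lt.yi, Lt.yi, Lt.yi, Lt.xi, Lt.yi, Lt.xi, Lt.yi, Lt.yi, Lt.yi] [Lt.y, Lt.y, Lt.y, Lt.x, Lt.y, Lt.x, Lt.y, Lt.y, Lt.y, Lt.x, Lt.y, Lt.x] (pair_rel hinv hr (by decide +kernel)) h
    · rcases brec_true h with h | h
      · exact mRel_good (T := T) (by decide) [Lt.y, Lt.x, Lt.y, Lt.y, Lt.x, Lt.yi, Lt.xi, Lt.xi, Lt.z, Lt.y, Lt.xi, Lt.yi, Lt.yi] [Lt.xi, Lt.yi, Lt.z, Lt.y, Lt.x, Lt.y, Lt.x] (pair_rel hinv hr (by decide +kernel)) h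
      · rcases brec_true h with h | h
        · exact mRel_good (T := T) (by decide) [Lt.y, Lt.x, Lt.y, Lt.y, Lt.y, Lt.xi, Lt.y, Lt.y, Lt.x, Lt.y, Lt.y, Lt.y, Lt.xi, Lt.y, Lt.y, Lt.x] [Lt.yi, Lt.x, Lt.yi, Lt.yi, Lt.yi] (pair_rel hinv hr (by decide +kernel)) h
        · exact mRel_good (T := T) (by decide) [Lt.yi, Lt.xi, Lt.yi, Lt.xi, Lt.yi, Lt.xi, Lt.yi, Lt.xi, Lt.yi, Lt.xi] [Lt.x, Lt.y, Lt.x, Lt.y, Lt.x, Lt.y] (pair_rel hinv hr (by decide +kernel)) h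
  · rcases brec_true h with h | h
    · rcases brec_true h with h | h
      · exact mRel_good (T := T) (by decide) [Lt.y, Lt.xi, Lt.yi, Lt.yi, Lt.xi, Lt.yi, Lt.xi, Lt.yi] [Lt.z, Lt.x, Lt.x, Lt.y, Lt.xi, Lt.yi, Lt.yi, Lt.xi, Lt.yi, Lt.xi, Lt.yi, Lt.z] (pair_rel hinv hr (by decide +kernel)) h
      · rcases brec_true h with h | h
        · exact mRel_good (T := T) (by decide) [Lt.y, Lt.x, Lt.y, Lt.x, Lt.y, Lt.y, Lt.x, Lt.yi, Lt.xi, Lt.xi, Lt.z, Lt.y, Lt.xi, Lt.yi, Lt.yi] [Lt.z, Lt.y, Lt.x, Lt.y, Lt.x] (pair_rel hinv hr (by decide +kernel)) h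
        · exact mRel_good (T := T) (by decide) [Lt.y, Lt.xi, Lt.yi, Lt.yi, Lt.xi, Lt.yi, Lt.xi, Lt.yi, Lt.z, Lt.y, Lt.x, Lt.y, Lt.x] [Lt.z, Lt.x, Lt.x, Lt.y, Lt.xi, Lt.yi, Lt.yi] (pair_rel hinv hr (by decide +kernel)) h
    · rcases brec_true h with h | h
      · exact mRel_good (T := T) (by decide) [Lt.yi, Lt.yi, Lt.x, Lt.yi, Lt.yi, Lt.yi, Lt.xi, Lt.yi, Lt.yi, Lt.x, Lt.yi, Lt.yi, Lt.yi, Lt.xi, Lt.yi] [Lt.x, Lt.y, Lt.y, Lt.y, Lt.xi, Lt.y] (pair_rel hinv hr (by decide +kernel)) h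
      · rcases brec_true h with h | h
        · exact mRel_good (T := T) (by decide) [Lt.yi, Lt.yi, Lt.x, Lt.yi, Lt.yi, Lt.yi, Lt.xi, Lt.yi, Lt.yi, Lt.x, Lt.yi, Lt.yi, Lt.yi] [Lt.x, Lt.y, Lt.y, Lt.y, Lt.xi, Lt.y, Lt.y, Lt.x] (pair_rel hinv hr (by decide +kernel)) h
        · exact mRel_good (T := T) (by decide) [Lt.y, Lt.x, Lt.y, Lt.y, Lt.x, Lt.yi, Lt.xi, Lt.xi] [Lt.xi, Lt.yi, Lt.z, Lt.y, Lt.x, Lt.y, Lt.x, Lt.y, Lt.y, Lt.x, Lt.yi, Lt.z] (pair_rel hinv hr (by decide +kernel)) h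
theorem dM_15_s (hinv : ∀ x, g (inv x) = (g x)⁻¹) (hr : ∀ r ∈ rels, (r.map g).prod = 1) (j z1 z2 u : ℕ) (h : dM_15 j z1 z2 u = true) : GoodM (fa g) T MG M (cP g H) u := by
  unfold dM_15 at h
  rcases brec_true h with h | h
  · exact dM_13_s hinv hr j z1 z2 u h
  · exact dM_14_s hinv hr j z1 z2 u h
theorem dM_16_s (hinv : ∀ x, g (inv x) = (g x)⁻¹) (hr : ∀ r ∈ rels, (r.map g).prod = 1) (j z1 z2 u : ℕ) (h : dM_16 j z1 z2 u = true) : GoodM (fa g) T MG M (cP g H) u := by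
  unfold dM_16 at h
  rcases brec_true h with h | h
  · exact dM_12_s hinv hr j z1 z2 u h
  · exact dM_15_s hinv hr j z1 z2 u h
theorem dM_17_s (hinv : ∀ x, g (inv x) = (g x)⁻¹) (hr : ∀ r ∈ rels, (r.map g).prod = 1) (j z1 z2 u : ℕ) (h : dM_17 j z1 z2 u = true) : GoodM (fa g) T MG M (cP g H) u := by
  unfold dM_17 at h
  rcases brec_true h with h | h
  · exact dM_9_s hinv hr j z1 z2 u h
  · exact dM_16_s hinv hr j z1 z2 u h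
theorem dM_18_s (hinv : ∀ x, g (inv x) = (g x)⁻¹) (hr : ∀ r ∈ rels, (r.map g).prod = 1) (j z1 z2 u : ℕ) (h : dM_18 j z1 z2 u = true) : GoodM (fa g) T MG M (cP g H) u := by
  unfold dM_18 at h
  rcases brec_true h with h | h
  · rcases brec_true h with h | h
    · rcases brec_true h with h | h
      · exact mRel_good (T := T) (by decide) [Lt.y, Lt.x, Lt.yi, Lt.xi, Lt.yi, Lt.xi, Lt.yi, Lt.yi, Lt.yi, Lt.z, Lt.y, Lt.y, Lt.y, Lt.x, Lt.y, Lt.x, Lt.y, Lt.x, Lt.yi, Lt.xi, Lt.yi, Lt.xi, Lt.yi, Lt.yi, Lt.yi, Lt.z, Lt.y, Lt.y, Lt.y] [Lt.xi, Lt.yi, Lt.xi, Lt.yi, Lt.yi, Lt.yi, Lt.z, Lt.y, Lt.y, Lt.y, Lt.x, Lt.y, Lt.x, Lt.y, Lt.z, Lt.xi, Lt.yi, Lt.xi, Lt.yi, Lt.xi] (pair_rel hinv hr (by decide +kernel)) h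
      · exact mRel_good (T := T) (by decide) [Lt.xi, Lt.y, Lt.y, Lt.x, Lt.y, Lt.y, Lt.y, Lt.xi, Lt.y, Lt.y, Lt.x] [Lt.yi, Lt.yi, Lt.yi, Lt.xi, Lt.yi, Lt.yi, Lt.x, Lt.yi, Lt.yi, Lt.yi] (pair_rel hinv hr (by decide +kernel)) h
    · rcases brec_true h with h | h
      · exact mRel_good (T := T) (by decide) [Lt.x, Lt.y, Lt.y, Lt.x, Lt.yi, Lt.xi, Lt.xi, Lt.z, Lt.y, Lt.xi] [Lt.yi, Lt.xi, Lt.yi, Lt.z, Lt.y, Lt.x, Lt.y, Lt.x, Lt.y, Lt.y] (pair_rel hinv hr (by decide +kernel)) h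
      · rcases brec_true h with h | h
        · exact mRel_good (T := T) (by decide) [Lt.yi, Lt.xi, Lt.xi, Lt.z, Lt.y, Lt.xi, Lt.yi, Lt.yi, Lt.xi, Lt.yi, Lt.xi] [Lt.xi, Lt.yi, Lt.yi, Lt.xi, Lt.yi, Lt.xi, Lt.yi, Lt.z, Lt.y] (pair_rel hinv hr (by decide +kernel)) h
        · exact mRel_good (T := T) (by decide) [Lt.xi, Lt.yi, Lt.z, Lt.y, Lt.x, Lt.y, Lt.x] [Lt.y, Lt.x, Lt.y, Lt.y, Lt.x, Lt.yi, Lt.z, Lt.x, Lt.x, Lt.y, Lt.xi, Lt.yi, Lt.yi] (pair_rel hinv hr (by decide +kernel)) h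
  · rcases brec_true h with h | h
    · rcases brec_true h with h | h
      · exact mRel_good (T := T) (by decide) [Lt.y, Lt.x, Lt.y, Lt.x, Lt.yi, Lt.xi, Lt.yi, Lt.xi, Lt.yi, Lt.yi, Lt.yi, Lt.z, Lt.y, Lt.y, Lt.y, Lt.x, Lt.y, Lt.x, Lt.y, Lt.x, Lt.yi, Lt.xi, Lt.yi, Lt.xi, Lt.yi, Lt.yi, Lt.yi, Lt.z, Lt.y, Lt.y, Lt.y, Lt.x, Lt.y, Lt.x] [Lt.xi, Lt.yi, Lt.yi, Lt.yi, Lt.z, Lt.y, Lt.y, Lt.y, Lt.x, Lt.y, Lt.x, Lt.y, Lt.z, Lt.xi, Lt.yi] (pair_rel hinv hr (by decide +kernel)) h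
      · exact mRel_good (T := T) (by decide) [Lt.y, Lt.x, Lt.y, Lt.y, Lt.y, Lt.xi, Lt.y, Lt.y, Lt.x, Lt.y, Lt.y, Lt.y] [Lt.yi, Lt.x, Lt.yi, Lt.yi, Lt.yi, Lt.xi, Lt.yi, Lt.yi, Lt.x] (pair_rel hinv hr (by decide +kernel)) h
    · rcases brec_true h with h | h
      · exact mRel_good (T := T) (by decide) [Lt.yi, Lt.yi, Lt.yi, Lt.xi, Lt.yi, Lt.yi, Lt.x, Lt.yi, Lt.yi, Lt.yi, Lt.xi, Lt.yi, Lt.yi, Lt.x, Lt.yi, Lt.yi, Lt.yi] [Lt.xi, Lt.y, Lt.y, Lt.x] (pair_rel hinv hr (by decide +kernel)) h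
      · rcases brec_true h with h | h
        · exact mRel_good (T := T) (by decide) [Lt.xi, Lt.yi, Lt.yi, Lt.xi, Lt.yi, Lt.xi, Lt.yi, Lt.z, Lt.y, Lt.x, Lt.y, Lt.x, Lt.y, Lt.y] [Lt.yi, Lt.z, Lt.x, Lt.x, Lt.y, Lt.xi] (pair_rel hinv hr (by decide +kernel)) h
        · exact mRel_good (T := T) (by decide) [Lt.xi, Lt.yi, Lt.z, Lt.y, Lt.x] [Lt.y, Lt.x, Lt.y, Lt.y, Lt.x, Lt.yi, Lt.z, Lt.x, Lt.x, Lt.y, Lt.xi, Lt.yi, Lt.yi, Lt.xi, Lt.yi] (pair_rel hinv hr (by decide +kernel)) h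
theorem dM_19_s (hinv : ∀ x, g (inv x) = (g x)⁻¹) (hr : ∀ r ∈ rels, (r.map g).prod = 1) (j z1 z2 u : ℕ) (h : dM_19 j z1 z2 u = true) : GoodM (fa g) T MG M (cP g H) u := by
  unfold dM_19 at h
  rcases brec_true h with h | h
  · rcases brec_true h with h | h
    · exact mRel_good (T := T) (by decide) [Lt.x, Lt.x, Lt.y, Lt.xi, Lt.yi, Lt.yi, Lt.xi, Lt.yi, Lt.xi, Lt.yi, Lt.z, Lt.y, Lt.x, Lt.y, Lt.x, Lt.y, Lt.y] [Lt.z, Lt.y, Lt.xi] (pair_rel hinv hr (by decide +kernel)) h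
    · exact mRel_good (T := T) (by decide) [Lt.y, Lt.x, Lt.y, Lt.y] [Lt.xi, Lt.yi, Lt.z, Lt.y, Lt.x, Lt.y, Lt.x, Lt.y, Lt.y, Lt.x, Lt.yi, Lt.z, Lt.x, Lt.x, Lt.y, Lt.xi] (pair_rel hinv hr (by decide +kernel)) h
  · rcases brec_true h with h | h
    · rcases brec_true h with h | h
      · exact mRel_good (T := T) (by decide) [Lt.y, Lt.x, Lt.y, Lt.x, Lt.y, Lt.y, Lt.x, Lt.yi, Lt.xi, Lt.xi] [Lt.z, Lt.y, Lt.x, Lt.y, Lt.x, Lt.y, Lt.y, Lt.x, Lt.yi, Lt.z] (pair_rel hinv hr (by decide +kernel)) h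
      · exact mRel_good (T := T) (by decide) [Lt.x, Lt.y, Lt.xi, Lt.yi, Lt.x, Lt.y, Lt.xi, Lt.yi] [Lt.y, Lt.x, Lt.yi, Lt.xi] (pair_rel hinv hr (by decide +kernel)) h
    · rcases brec_true h with h | h
      · exact mRel_good (T := T) (by decide) [Lt.y, Lt.xi, Lt.yi, Lt.x, Lt.y, Lt.xi, Lt.yi] [Lt.xi, Lt.y, Lt.x, Lt.yi, Lt.xi] (pair_rel hinv hr (by decide +kernel)) h
      · rcases brec_true h with h | h
        · exact mRel_good (T := T) (by decide) [Lt.x, Lt.yi, Lt.xi, Lt.y, Lt.x, Lt.yi, Lt.xi, Lt.y, Lt.x, Lt.yi] [Lt.yi, Lt.x] (pair_rel hinv hr (by decide +kernel)) h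
        · exact mRel_good (T := T) (by decide) [Lt.yi, Lt.x, Lt.y, Lt.xi, Lt.yi] [Lt.x, Lt.yi, Lt.xi, Lt.y, Lt.x, Lt.yi, Lt.xi] (pair_rel hinv hr (by decide +kernel)) h
theorem dM_20_s (hinv : ∀ x, g (inv x) = (g x)⁻¹) (hr : ∀ r ∈ rels, (r.map g).prod = 1) (j z1 z2 u : ℕ) (h : dM_20 j z1 z2 u = true) : GoodM (fa g) T MG M (cP g H) u := by
  unfold dM_20 at h
  rcases brec_true h with h | h
  · rcases brec_true h with h | h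
    · rcases brec_true h with h | h
      · exact mRel_good (T := T) (by decide) [Lt.y, Lt.x, Lt.y, Lt.y, Lt.y, Lt.x, Lt.y, Lt.x, Lt.y, Lt.y, Lt.y, Lt.x, Lt.y, Lt.x] [Lt.xi, Lt.yi, Lt.yi, Lt.yi, Lt.xi, Lt.yi, Lt.xi, Lt.yi, Lt.yi, Lt.yi] (pair_rel hinv hr (by decide +kernel)) h
      · exact mRel_good (T := T) (by decide) [Lt.y, Lt.y, Lt.x, Lt.y, Lt.x, Lt.y, Lt.y, Lt.y] [Lt.yi, Lt.xi, Lt.yi, Lt.xi, Lt.yi, Lt.yi, Lt.yi, Lt.xi, Lt.yi, Lt.xi, Lt.yi, Lt.yi, Lt.yi, Lt.xi, Lt.yi, Lt.xi] (pair_rel hinv hr (by decide +kernel)) h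
    · rcases brec_true h with h | h
      · exact mRel_good (T := T) (by decide) [Lt.y, Lt.x, Lt.y, Lt.y, Lt.y, Lt.xi, Lt.y, Lt.y, Lt.x, Lt.y] [Lt.yi, Lt.x, Lt.yi, Lt.yi, Lt.yi, Lt.xi, Lt.yi, Lt.yi, Lt.x, Lt.yi, Lt.yi] (pair_rel hinv hr (by decide +kernel)) h
      · rcases brec_true h with h | h
        · exact mRel_good (T := T) (by decide) [Lt.y, Lt.x, Lt.y, Lt.y, Lt.y, Lt.xi, Lt.y, Lt.y, Lt.x] [Lt.yi, Lt.x, Lt.yi, Lt.yi, Lt.yi, Lt.xi, Lt.yi, Lt.yi, Lt.x, Lt.yi, Lt.yi, Lt.yi] (pair_rel hinv hr (by decide +kernel)) h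
        · exact mRel_good (T := T) (by decide) [Lt.y, Lt.x, Lt.yi, Lt.xi, Lt.xi, Lt.z, Lt.y, Lt.xi, Lt.yi, Lt.yi, Lt.xi, Lt.yi, Lt.xi, Lt.yi, Lt.z] [Lt.yi, Lt.xi, Lt.yi, Lt.xi, Lt.yi] (pair_rel hinv hr (by decide +kernel)) h
  · rcases brec_true h with h | h
    · rcases brec_true h with h | h
      · exact mRel_good (T := T) (by decide) [Lt.x, Lt.x, Lt.y, Lt.xi, Lt.yi, Lt.yi, Lt.xi, Lt.yi, Lt.xi, Lt.yi, Lt.z, Lt.y, Lt.x, Lt.y, Lt.x, Lt.y, Lt.y, Lt.x, Lt.yi, Lt.z] [] (pair_rel hinv hr (by decide +kernel)) h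
      · rcases brec_true h with h | h
        · exact mRel_good (T := T) (by decide) [Lt.x, Lt.yi, Lt.yi, Lt.yi, Lt.xi, Lt.yi, Lt.yi, Lt.x, Lt.yi] [Lt.y, Lt.y, Lt.x, Lt.y, Lt.y, Lt.y, Lt.xi, Lt.y, Lt.y, Lt.x, Lt.y, Lt.y] (pair_rel hinv hr (by decide +kernel)) h
        · exact mRel_good (T := T) (by decide) [Lt.y, Lt.y, Lt.x, Lt.y, Lt.x, Lt.y, Lt.y, Lt.y, Lt.x, Lt.y, Lt.x, Lt.y, Lt.y, Lt.y] [Lt.yi, Lt.xi, Lt.yi, Lt.xi, Lt.yi, Lt.yi, Lt.yi, Lt.xi, Lt.yi, Lt.xi] (pair_rel hinv hr (by decide +kernel)) h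
    · rcases brec_true h with h | h
      · exact mRel_good (T := T) (by decide) [Lt.xi, Lt.yi, Lt.yi, Lt.yi, Lt.xi, Lt.yi, Lt.xi, Lt.yi, Lt.yi, Lt.yi] [Lt.y, Lt.x, Lt.y, Lt.y, Lt.y, Lt.x, Lt.y, Lt.x, Lt.y, Lt.y, Lt.y, Lt.x, Lt.y, Lt.x] (pair_rel hinv hr (by decide +kernel)) h
      · rcases brec_true h with h | h
        · exact mRel_good (T := T) (by decide) [Lt.y, Lt.y, Lt.x, Lt.y, Lt.x, Lt.y, Lt.y, Lt.y, Lt.x, Lt.y, Lt.x] [Lt.yi, Lt.xi, Lt.yi, Lt.xi, Lt.yi, Lt.yi, Lt.yi, Lt.xi, Lt.yi, Lt.xi, Lt.yi, Lt.yi, Lt.yi] (pair_rel hinv hr (by decide +kernel)) h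
        · exact mRel_good (T := T) (by decide) [Lt.x, Lt.y, Lt.x, Lt.y, Lt.y, Lt.y, Lt.x, Lt.y, Lt.x, Lt.y, Lt.y, Lt.y, Lt.x, Lt.y, Lt.x, Lt.y, Lt.y, Lt.y] [Lt.yi, Lt.yi, Lt.yi, Lt.xi, Lt.yi, Lt.xi] (pair_rel hinv hr (by decide +kernel)) h
theorem dM_21_s (hinv : ∀ x, g (inv x) = (g x)⁻¹) (hr : ∀ r ∈ rels, (r.map g).prod = 1) (j z1 z2 u : ℕ) (h : dM_21 j z1 z2 u = true) : GoodM (fa g) T MG M (cP g H) u := by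
  unfold dM_21 at h
  rcases brec_true h with h | h
  · exact dM_19_s hinv hr j z1 z2 u h
  · exact dM_20_s hinv hr j z1 z2 u h
theorem dM_22_s (hinv : ∀ x, g (inv x) = (g x)⁻¹) (hr : ∀ r ∈ rels, (r.map g).prod = 1) (j z1 z2 u : ℕ) (h : dM_22 j z1 z2 u = true) : GoodM (fa g) T MG M (cP g H) u := by
  unfold dM_22 at h
  rcases brec_true h with h | h
  · exact dM_18_s hinv hr j z1 z2 u h
  · exact dM_21_s hinv hr j z1 z2 u h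
theorem dM_23_s (hinv : ∀ x, g (inv x) = (g x)⁻¹) (hr : ∀ r ∈ rels, (r.map g).prod = 1) (j z1 z2 u : ℕ) (h : dM_23 j z1 z2 u = true) : GoodM (fa g) T MG M (cP g H) u := by
  unfold dM_23 at h
  rcases brec_true h with h | h
  · rcases brec_true h with h | h
    · rcases brec_true h with h | h
      · exact mRel_good (T := T) (by decide) [Lt.y, Lt.y, Lt.y, Lt.x, Lt.y, Lt.x, Lt.y, Lt.y, Lt.y, Lt.x, Lt.y, Lt.x, Lt.y, Lt.y, Lt.y, Lt.x, Lt.y, Lt.x, Lt.y, Lt.y, Lt.y] [Lt.xi, Lt.yi, Lt.xi] (pair_rel hinv hr (by decide +kernel)) h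
      · exact mRel_good (T := T) (by decide) [Lt.yi, Lt.xi, Lt.yi, Lt.yi, Lt.x, Lt.yi, Lt.yi, Lt.yi, Lt.xi] [Lt.y, Lt.y, Lt.xi, Lt.y, Lt.y, Lt.x, Lt.y, Lt.y, Lt.y, Lt.xi, Lt.y, Lt.y] (pair_rel hinv hr (by decide +kernel)) h
    · rcases brec_true h with h | h
      · exact mRel_good (T := T) (by decide) [Lt.yi, Lt.x, Lt.y, Lt.xi, Lt.yi, Lt.x, Lt.y, Lt.xi, Lt.yi] [Lt.x, Lt.yi, Lt.xi] (pair_rel hinv hr (by decide +kernel)) h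
      · rcases brec_true h with h | h
        · exact mRel_good (T := T) (by decide) [Lt.yi, Lt.xi, Lt.yi, Lt.xi, Lt.yi, Lt.xi, Lt.yi, Lt.xi, Lt.yi, Lt.xi, Lt.yi, Lt.xi, Lt.yi, Lt.xi] [Lt.x, Lt.y] (pair_rel hinv hr (by decide +kernel)) h
        · exact mRel_good (T := T) (by decide) [Lt.yi, Lt.xi, Lt.yi, Lt.xi, Lt.yi, Lt.yi, Lt.yi, Lt.xi, Lt.yi, Lt.xi, Lt.yi, Lt.yi, Lt.yi, Lt.xi, Lt.yi, Lt.xi, Lt.yi, Lt.yi, Lt.yi, Lt.xi, Lt.yi, Lt.xi] [Lt.y, Lt.y] (pair_rel hinv hr (by decide +kernel)) h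
  · rcases brec_true h with h | h
    · rcases brec_true h with h | h
      · exact mRel_good (T := T) (by decide) [Lt.y, Lt.y, Lt.y, Lt.xi, Lt.y, Lt.y, Lt.x, Lt.y, Lt.y, Lt.y, Lt.xi, Lt.y, Lt.y, Lt.x, Lt.y, Lt.y, Lt.y] [Lt.xi, Lt.yi, Lt.yi, Lt.x] (pair_rel hinv hr (by decide +kernel)) h
      · exact mRel_good (T := T) (by decide) [Lt.x, Lt.y, Lt.y, Lt.y, Lt.xi, Lt.y, Lt.y, Lt.x, Lt.y, Lt.y, Lt.y, Lt.xi, Lt.y] [Lt.yi, Lt.yi, Lt.x, Lt.yi, Lt.yi, Lt.yi, Lt.xi, Lt.yi] (pair_rel hinv hr (by decide +kernel)) h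
    · rcases brec_true h with h | h
      · exact mRel_good (T := T) (by decide) [Lt.y, Lt.y, Lt.xi, Lt.y, Lt.y, Lt.x, Lt.y, Lt.y, Lt.y, Lt.xi, Lt.y, Lt.y, Lt.x] [Lt.yi, Lt.xi, Lt.yi, Lt.yi, Lt.x, Lt.yi, Lt.yi, Lt.yi] (pair_rel hinv hr (by decide +kernel)) h
      · rcases brec_true h with h | h
        · exact mRel_good (T := T) (by decide) [Lt.y, Lt.x, Lt.y, Lt.y, Lt.y, Lt.x, Lt.y, Lt.x, Lt.y, Lt.y, Lt.y, Lt.x, Lt.y, Lt.x, Lt.y, Lt.y, Lt.y, Lt.x, Lt.y, Lt.x] [Lt.xi, Lt.yi, Lt.yi, Lt.yi] (pair_rel hinv hr (by decide +kernel)) h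
        · exact mRel_good (T := T) (by decide) [Lt.x, Lt.y, Lt.y, Lt.y, Lt.xi, Lt.y, Lt.y, Lt.x, Lt.y, Lt.y, Lt.y] [Lt.yi, Lt.yi, Lt.x, Lt.yi, Lt.yi, Lt.yi, Lt.xi, Lt.yi, Lt.yi, Lt.x] (pair_rel hinv hr (by decide +kernel)) h
theorem dM_24_s (hinv : ∀ x, g (inv x) = (g x)⁻¹) (hr : ∀ r ∈ rels, (r.map g).prod = 1) (j z1 z2 u : ℕ) (h : dM_24 j z1 z2 u = true) : GoodM (fa g) T MG M (cP g H) u := by
  unfold dM_24 at h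
  rcases brec_true h with h | h
  · rcases brec_true h with h | h
    · rcases brec_true h with h | h
      · exact mRel_good (T := T) (by decide) [Lt.x, Lt.y, Lt.x, Lt.yi, Lt.xi, Lt.yi, Lt.xi, Lt.yi, Lt.yi, Lt.yi, Lt.z, Lt.y, Lt.y, Lt.y, Lt.x, Lt.y, Lt.x, Lt.y, Lt.x, Lt.z, Lt.yi, Lt.xi, Lt.yi, Lt.xi, Lt.yi, Lt.yi, Lt.yi, Lt.z, Lt.y, Lt.y, Lt.y, Lt.x, Lt.y, Lt.x] [Lt.yi, Lt.xi, Lt.yi, Lt.yi, Lt.yi, Lt.z, Lt.y, Lt.y, Lt.y, Lt.x, Lt.y, Lt.x, Lt.y, Lt.xi, Lt.yi] (pair_rel hinv hr (by decide +kernel)) h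
      · exact mRel_good (T := T) (by decide) [Lt.y, Lt.y, Lt.x, Lt.y, Lt.y, Lt.y, Lt.xi, Lt.y, Lt.y, Lt.x, Lt.y, Lt.y, Lt.y, Lt.xi, Lt.y, Lt.y, Lt.x, Lt.y, Lt.y] [Lt.x, Lt.yi] (pair_rel hinv hr (by decide +kernel)) h
    · rcases brec_true h with h | h
      · exact mRel_good (T := T) (by decide) [Lt.y, Lt.xi, Lt.y, Lt.y, Lt.x, Lt.y, Lt.y, Lt.y, Lt.xi, Lt.y, Lt.y, Lt.x, Lt.y, Lt.y, Lt.y] [Lt.yi, Lt.yi, Lt.xi, Lt.yi, Lt.yi, Lt.x] (pair_rel hinv hr (by decide +kernel)) h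
      · rcases brec_true h with h | h
        · exact mRel_good (T := T) (by decide) [Lt.y, Lt.x, Lt.z, Lt.yi, Lt.xi, Lt.yi, Lt.xi, Lt.yi, Lt.yi, Lt.yi, Lt.z, Lt.y, Lt.y, Lt.y] [Lt.xi, Lt.yi, Lt.xi, Lt.yi, Lt.yi, Lt.yi, Lt.z, Lt.y, Lt.y, Lt.y, Lt.x, Lt.y, Lt.x, Lt.y, Lt.xi, Lt.yi, Lt.xi, Lt.yi, Lt.xi, Lt.yi, Lt.yi, Lt.yi, Lt.z, Lt.y, Lt.y, Lt.y, Lt.x, Lt.y, Lt.x, Lt.y, Lt.xi, Lt.yi, Lt.xi, Lt.yi, Lt.xi] (pair_rel hinv hr (by decide +kernel)) h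
        · exact mRel_good (T := T) (by decide) [Lt.xi, Lt.yi, Lt.yi, Lt.x] [Lt.y, Lt.y, Lt.y, Lt.xi, Lt.y, Lt.y, Lt.x, Lt.y, Lt.y, Lt.y, Lt.xi, Lt.y, Lt.y, Lt.x, Lt.y, Lt.y, Lt.y] (pair_rel hinv hr (by decide +kernel)) h
  · rcases brec_true h with h | h
    · rcases brec_true h with h | h
      · exact mRel_good (T := T) (by decide) [Lt.yi, Lt.yi, Lt.yi, Lt.xi, Lt.yi, Lt.yi, Lt.x, Lt.yi, Lt.yi, Lt.yi, Lt.xi, Lt.yi, Lt.yi, Lt.x] [Lt.xi, Lt.y, Lt.y, Lt.x, Lt.y, Lt.y, Lt.y] (pair_rel hinv hr (by decide +kernel)) h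
      · rcases brec_true h with h | h
        · exact mRel_good (T := T) (by decide) [Lt.y, Lt.x, Lt.y, Lt.x, Lt.y, Lt.x, Lt.yi, Lt.xi, Lt.yi, Lt.xi, Lt.yi, Lt.yi, Lt.yi, Lt.z, Lt.y, Lt.y, Lt.y, Lt.x, Lt.y, Lt.x, Lt.y, Lt.x, Lt.yi, Lt.xi, Lt.yi, Lt.xi, Lt.yi, Lt.yi, Lt.yi, Lt.z, Lt.y, Lt.y, Lt.y] [Lt.yi, Lt.yi, Lt.z, Lt.y, Lt.y, Lt.y, Lt.x, Lt.y, Lt.x, Lt.y, Lt.z, Lt.xi, Lt.yi, Lt.xi, Lt.yi, Lt.xi] (pair_rel hinv hr (by decide +kernel)) h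
        · exact mRel_good (T := T) (by decide) [Lt.y, Lt.xi, Lt.y, Lt.y, Lt.x, Lt.y] [Lt.yi, Lt.yi, Lt.xi, Lt.yi, Lt.yi, Lt.x, Lt.yi, Lt.yi, Lt.yi, Lt.xi, Lt.yi, Lt.yi, Lt.x, Lt.yi, Lt.yi] (pair_rel hinv hr (by decide +kernel)) h
    · rcases brec_true h with h | h
      · exact mRel_good (T := T) (by decide) [Lt.yi, Lt.yi, Lt.yi, Lt.xi, Lt.yi, Lt.xi, Lt.yi, Lt.yi, Lt.yi, Lt.xi, Lt.yi, Lt.xi, Lt.yi, Lt.yi, Lt.yi] [Lt.x, Lt.y, Lt.x, Lt.y, Lt.y, Lt.y, Lt.x, Lt.y, Lt.x] (pair_rel hinv hr (by decide +kernel)) h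
      · rcases brec_true h with h | h
        · exact mRel_good (T := T) (by decide) [Lt.y, Lt.y, Lt.y, Lt.x] [Lt.xi, Lt.yi, Lt.xi, Lt.yi, Lt.yi, Lt.yi, Lt.xi, Lt.yi, Lt.xi, Lt.yi, Lt.yi, Lt.yi, Lt.xi, Lt.yi, Lt.xi, Lt.yi, Lt.yi, Lt.yi, Lt.xi, Lt.yi] (pair_rel hinv hr (by decide +kernel)) h
        · exact mRel_good (T := T) (by decide) [Lt.y, Lt.x, Lt.y] [Lt.yi, Lt.x, Lt.yi, Lt.yi, Lt.yi, Lt.xi, Lt.yi, Lt.yi, Lt.x, Lt.yi, Lt.yi, Lt.yi, Lt.xi, Lt.yi, Lt.yi, Lt.x, Lt.yi, Lt.yi] (pair_rel hinv hr (by decide +kernel)) h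
theorem dM_25_s (hinv : ∀ x, g (inv x) = (g x)⁻¹) (hr : ∀ r ∈ rels, (r.map g).prod = 1) (j z1 z2 u : ℕ) (h : dM_25 j z1 z2 u = true) : GoodM (fa g) T MG M (cP g H) u := by
  unfold dM_25 at h
  rcases brec_true h with h | h
  · exact dM_23_s hinv hr j z1 z2 u h
  · exact dM_24_s hinv hr j z1 z2 u h
theorem dM_26_s (hinv : ∀ x, g (inv x) = (g x)⁻¹) (hr : ∀ r ∈ rels, (r.map g).prod = 1) (j z1 z2 u : ℕ) (h : dM_26 j z1 z2 u = true) : GoodM (fa g) T MG M (cP g H) u := by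
  unfold dM_26 at h
  rcases brec_true h with h | h
  · rcases brec_true h with h | h
    · rcases brec_true h with h | h
      · exact mRel_good (T := T) (by decide) [Lt.yi, Lt.yi, Lt.yi, Lt.yi, Lt.yi] [Lt.y] (pair_rel hinv hr (by decide +kernel)) h
      · exact mRel_good (T := T) (by decide) [Lt.xi, Lt.y, Lt.y, Lt.x, Lt.y, Lt.y, Lt.y, Lt.xi, Lt.y, Lt.y, Lt.x, Lt.y, Lt.y, Lt.y, Lt.xi, Lt.y, Lt.y, Lt.x] [Lt.yi, Lt.yi, Lt.yi] (pair_rel hinv hr (by decide +kernel)) h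
    · rcases brec_true h with h | h
      · exact mRel_good (T := T) (by decide) [Lt.xi, Lt.yi, Lt.yi, Lt.yi, Lt.xi, Lt.yi, Lt.xi, Lt.yi, Lt.yi, Lt.yi, Lt.xi, Lt.yi, Lt.xi, Lt.yi] [Lt.y, Lt.x, Lt.y, Lt.y, Lt.y, Lt.x, Lt.y, Lt.x, Lt.y, Lt.y] (pair_rel hinv hr (by decide +kernel)) h
      · rcases brec_true h with h | h
        · exact mRel_good (T := T) (by decide) [Lt.yi, Lt.yi, Lt.x, Lt.yi, Lt.yi, Lt.yi, Lt.xi, Lt.yi, Lt.yi, Lt.x] [Lt.x, Lt.y, Lt.y, Lt.y, Lt.xi, Lt.y, Lt.y, Lt.x, Lt.y, Lt.y, Lt.y] (pair_rel hinv hr (by decide +kernel)) h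
        · exact mRel_good (T := T) (by decide) [Lt.y, Lt.y, Lt.x, Lt.y, Lt.y, Lt.y] [Lt.x, Lt.yi, Lt.yi, Lt.yi, Lt.xi, Lt.yi, Lt.yi, Lt.x, Lt.yi, Lt.yi, Lt.yi, Lt.xi, Lt.yi, Lt.yi, Lt.x] (pair_rel hinv hr (by decide +kernel)) h
  · rcases brec_true h with h | h
    · rcases brec_true h with h | h
      · exact mRel_good (T := T) (by decide) [Lt.y, Lt.y, Lt.y, Lt.y, Lt.y] [Lt.yi] (pair_rel hinv hr (by decide +kernel)) h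
      · exact mRel_good (T := T) (by decide) [Lt.y, Lt.y, Lt.y, Lt.xi, Lt.y, Lt.y, Lt.x] [Lt.xi, Lt.yi, Lt.yi, Lt.x, Lt.yi, Lt.yi, Lt.yi, Lt.xi, Lt.yi, Lt.yi, Lt.x, Lt.yi, Lt.yi, Lt.yi] (pair_rel hinv hr (by decide +kernel)) h
    · rcases brec_true h with h | h
      · exact mRel_good (T := T) (by decide) [Lt.yi, Lt.yi, Lt.xi, Lt.yi, Lt.xi, Lt.yi, Lt.yi, Lt.yi, Lt.xi, Lt.yi, Lt.xi, Lt.yi, Lt.yi, Lt.yi, Lt.xi, Lt.yi, Lt.xi, Lt.yi, Lt.yi, Lt.yi] [Lt.y, Lt.x, Lt.y, Lt.x] (pair_rel hinv hr (by decide +kernel)) h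
      · rcases brec_true h with h | h
        · exact mRel_good (T := T) (by decide) [Lt.x, Lt.y, Lt.x, Lt.y, Lt.x, Lt.z, Lt.yi, Lt.xi, Lt.yi, Lt.xi, Lt.yi, Lt.yi, Lt.yi, Lt.z, Lt.y, Lt.y, Lt.y, Lt.x, Lt.y, Lt.x, Lt.y, Lt.x] [Lt.yi, Lt.yi, Lt.yi, Lt.z, Lt.y, Lt.y, Lt.y, Lt.x, Lt.y, Lt.x, Lt.y, Lt.xi, Lt.yi, Lt.xi, Lt.yi, Lt.xi, Lt.yi, Lt.yi, Lt.yi, Lt.z, Lt.y, Lt.y, Lt.y, Lt.x, Lt.y, Lt.x, Lt.y] (pair_rel hinv hr (by decide +kernel)) h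
        · exact mRel_good (T := T) (by decide) [Lt.xi, Lt.yi, Lt.yi, Lt.xi, Lt.yi, Lt.xi, Lt.yi, Lt.z, Lt.y, Lt.x, Lt.y, Lt.x] [Lt.yi, Lt.z, Lt.x, Lt.x, Lt.y, Lt.xi, Lt.yi, Lt.yi] (pair_rel hinv hr (by decide +kernel)) h
theorem dM_27_s (hinv : ∀ x, g (inv x) = (g x)⁻¹) (hr : ∀ r ∈ rels, (r.map g).prod = 1) (j z1 z2 u : ℕ) (h : dM_27 j z1 z2 u = true) : GoodM (fa g) T MG M (cP g H) u := by
  unfold dM_27 at h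
  rcases brec_true h with h | h
  · rcases brec_true h with h | h
    · rcases brec_true h with h | h
      · exact mRel_good (T := T) (by decide) [Lt.x, Lt.y, Lt.x, Lt.y, Lt.y, Lt.x, Lt.yi, Lt.xi, Lt.xi, Lt.z] [Lt.yi, Lt.z, Lt.y, Lt.x, Lt.y, Lt.x, Lt.y, Lt.y, Lt.x, Lt.yi] (pair_rel hinv hr (by decide +kernel)) h
      · exact mRel_good (T := T) (by decide) [Lt.yi, Lt.z, Lt.y, Lt.x, Lt.y, Lt.x, Lt.y, Lt.y, Lt.x, Lt.yi, Lt.xi, Lt.xi, Lt.z, Lt.y, Lt.xi] [Lt.x, Lt.y, Lt.x, Lt.y, Lt.y] (pair_rel hinv hr (by decide +kernel)) h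
    · rcases brec_true h with h | h
      · exact mRel_good (T := T) (by decide) [Lt.y, Lt.x, Lt.yi, Lt.xi, Lt.yi, Lt.xi, Lt.yi, Lt.yi, Lt.yi, Lt.z, Lt.y, Lt.y, Lt.y, Lt.x, Lt.y, Lt.x, Lt.y, Lt.x, Lt.z, Lt.yi, Lt.xi, Lt.yi, Lt.xi] [Lt.xi, Lt.yi, Lt.xi, Lt.yi, Lt.yi, Lt.yi, Lt.z, Lt.y, Lt.y, Lt.y, Lt.x, Lt.y, Lt.x, Lt.y, Lt.xi, Lt.yi, Lt.xi, Lt.yi, Lt.xi, Lt.yi, Lt.yi, Lt.yi, Lt.z, Lt.y, Lt.y, Lt.y] (pair_rel hinv hr (by decide +kernel)) h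
      · rcases brec_true h with h | h
        · exact mRel_good (T := T) (by decide) [Lt.x, Lt.yi, Lt.yi, Lt.yi, Lt.xi, Lt.yi] [Lt.y, Lt.y, Lt.x, Lt.y, Lt.y, Lt.y, Lt.xi, Lt.y, Lt.y, Lt.x, Lt.y, Lt.y, Lt.y, Lt.xi, Lt.y] (pair_rel hinv hr (by decide +kernel)) h
        · exact mRel_good (T := T) (by decide) [Lt.y, Lt.x, Lt.yi, Lt.xi, Lt.yi, Lt.xi, Lt.yi, Lt.yi, Lt.yi, Lt.z, Lt.y, Lt.y, Lt.y, Lt.x, Lt.y, Lt.x, Lt.y, Lt.x, Lt.yi, Lt.xi, Lt.yi, Lt.xi, Lt.yi, Lt.yi, Lt.yi, Lt.z, Lt.y, Lt.y, Lt.y, Lt.x, Lt.y, Lt.x] [Lt.xi, Lt.yi, Lt.xi, Lt.yi, Lt.yi, Lt.yi, Lt.z, Lt.y, Lt.y, Lt.y, Lt.x, Lt.y, Lt.x, Lt.y, Lt.z, Lt.xi, Lt.yi] (pair_rel hinv hr (by decide +kernel)) h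
  · rcases brec_true h with h | h
    · rcases brec_true h with h | h
      · exact mRel_good (T := T) (by decide) [Lt.y, Lt.x, Lt.y, Lt.x, Lt.y, Lt.x, Lt.yi, Lt.xi, Lt.yi, Lt.xi, Lt.yi, Lt.yi, Lt.yi, Lt.z, Lt.y, Lt.y, Lt.y, Lt.x, Lt.y, Lt.x, Lt.y, Lt.x, Lt.z, Lt.yi, Lt.xi, Lt.yi, Lt.xi] [Lt.yi, Lt.yi, Lt.z, Lt.y, Lt.y, Lt.y, Lt.x, Lt.y, Lt.x, Lt.y, Lt.xi, Lt.yi, Lt.xi, Lt.yi, Lt.xi, Lt.yi, Lt.yi, Lt.yi, Lt.z, Lt.y, Lt.y, Lt.y] (pair_rel hinv hr (by decide +kernel)) h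
      · rcases brec_true h with h | h
        · exact mRel_good (T := T) (by decide) [Lt.yi, Lt.yi, Lt.xi, Lt.yi, Lt.yi, Lt.x, Lt.yi, Lt.yi, Lt.yi, Lt.xi, Lt.yi] [Lt.y, Lt.xi, Lt.y, Lt.y, Lt.x, Lt.y, Lt.y, Lt.y, Lt.xi, Lt.y] (pair_rel hinv hr (by decide +kernel)) h
        · exact mRel_good (T := T) (by decide) [Lt.yi, Lt.xi, Lt.yi, Lt.yi, Lt.x, Lt.yi, Lt.yi, Lt.yi, Lt.xi, Lt.yi, Lt.yi, Lt.x, Lt.yi, Lt.yi, Lt.yi, Lt.xi, Lt.yi] [Lt.y, Lt.y, Lt.xi, Lt.y] (pair_rel hinv hr (by decide +kernel)) h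
    · rcases brec_true h with h | h
      · exact mRel_good (T := T) (by decide) [Lt.yi, Lt.yi, Lt.xi, Lt.yi, Lt.xi, Lt.yi, Lt.z, Lt.y, Lt.x, Lt.y, Lt.x, Lt.y, Lt.y] [Lt.x, Lt.yi, Lt.z, Lt.x, Lt.x, Lt.y, Lt.xi] (pair_rel hinv hr (by decide +kernel)) h
      · rcases brec_true h with h | h
        · exact mRel_good (T := T) (by decide) [Lt.y, Lt.y, Lt.xi, Lt.y, Lt.y, Lt.x] [Lt.yi, Lt.xi, Lt.yi, Lt.yi, Lt.x, Lt.yi, Lt.yi, Lt.yi, Lt.xi, Lt.yi, Lt.yi, Lt.x, Lt.yi, Lt.yi, Lt.yi] (pair_rel hinv hr (by decide +kernel)) h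
        · exact mRel_good (T := T) (by decide) [Lt.x, Lt.y, Lt.x, Lt.y, Lt.x, Lt.yi, Lt.xi, Lt.yi, Lt.xi, Lt.yi, Lt.yi, Lt.yi, Lt.z, Lt.y, Lt.y, Lt.y, Lt.x, Lt.y, Lt.x, Lt.y, Lt.x, Lt.yi, Lt.xi, Lt.yi, Lt.xi, Lt.yi, Lt.yi, Lt.yi, Lt.z, Lt.y, Lt.y, Lt.y, Lt.x, Lt.y, Lt.x] [Lt.yi, Lt.yi, Lt.yi, Lt.z, Lt.y, Lt.y, Lt.y, Lt.x, Lt.y, Lt.x, Lt.y, Lt.z, Lt.xi, Lt.yi] (pair_rel hinv hr (by decide +kernel)) h
theorem dM_28_s (hinv : ∀ x, g (inv x) = (g x)⁻¹) (hr : ∀ r ∈ rels, (r.map g).prod = 1) (j z1 z2 u : ℕ) (h : dM_28 j z1 z2 u = true) : GoodM (fa g) T MG M (cP g H) u := by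
  unfold dM_28 at h
  rcases brec_true h with h | h
  · exact dM_26_s hinv hr j z1 z2 u h
  · exact dM_27_s hinv hr j z1 z2 u h
theorem dM_29_s (hinv : ∀ x, g (inv x) = (g x)⁻¹) (hr : ∀ r ∈ rels, (r.map g).prod = 1) (j z1 z2 u : ℕ) (h : dM_29 j z1 z2 u = true) : GoodM (fa g) T MG M (cP g H) u := by
  unfold dM_29 at h
  rcases brec_true h with h | h
  · exact dM_25_s hinv hr j z1 z2 u h
  · exact dM_28_s hinv hr j z1 z2 u h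
theorem dM_30_s (hinv : ∀ x, g (inv x) = (g x)⁻¹) (hr : ∀ r ∈ rels, (r.map g).prod = 1) (j z1 z2 u : ℕ) (h : dM_30 j z1 z2 u = true) : GoodM (fa g) T MG M (cP g H) u := by
  unfold dM_30 at h
  rcases brec_true h with h | h
  · exact dM_22_s hinv hr j z1 z2 u h
  · exact dM_29_s hinv hr j z1 z2 u h
theorem dM_31_s (hinv : ∀ x, g (inv x) = (g x)⁻¹) (hr : ∀ r ∈ rels, (r.map g).prod = 1) (j z1 z2 u : ℕ) (h : dM_31 j z1 z2 u = true) : GoodM (fa g) T MG M (cP g H) u := by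
  unfold dM_31 at h
  rcases brec_true h with h | h
  · rcases brec_true h with h | h
    · rcases brec_true h with h | h
      · exact mRel_good (T := T) (by decide) [Lt.y, Lt.y, Lt.x, Lt.yi, Lt.xi, Lt.xi] [Lt.xi, Lt.yi, Lt.xi, Lt.yi, Lt.z, Lt.y, Lt.x, Lt.y, Lt.x, Lt.y, Lt.y, Lt.x, Lt.yi, Lt.z] (pair_rel hinv hr (by decide +kernel)) h
      · exact mRel_good (T := T) (by decide) [Lt.yi, Lt.z, Lt.y, Lt.x, Lt.y, Lt.x] [Lt.x, Lt.y, Lt.x, Lt.y, Lt.y, Lt.x, Lt.yi, Lt.z, Lt.x, Lt.x, Lt.y, Lt.xi, Lt.yi, Lt.yi] (pair_rel hinv hr (by decide +kernel)) h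
    · rcases brec_true h with h | h
      · exact mRel_good (T := T) (by decide) [Lt.yi, Lt.yi, Lt.xi, Lt.yi, Lt.xi, Lt.yi, Lt.z, Lt.y, Lt.x, Lt.y, Lt.x, Lt.y] [Lt.x, Lt.yi, Lt.z, Lt.x, Lt.x, Lt.y, Lt.xi, Lt.yi] (pair_rel hinv hr (by decide +kernel)) h
      · rcases brec_true h with h | h
        · exact mRel_good (T := T) (by decide) [Lt.x, Lt.x, Lt.y, Lt.xi, Lt.yi, Lt.yi, Lt.xi, Lt.yi, Lt.xi, Lt.yi, Lt.z, Lt.y, Lt.x, Lt.y, Lt.x] [Lt.z, Lt.y, Lt.xi, Lt.yi, Lt.yi] (pair_rel hinv hr (by decide +kernel)) h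
        · exact mRel_good (T := T) (by decide) [Lt.y, Lt.x, Lt.y, Lt.y, Lt.y, Lt.xi, Lt.y] [Lt.yi, Lt.x, Lt.yi, Lt.yi, Lt.yi, Lt.xi, Lt.yi, Lt.yi, Lt.x, Lt.yi, Lt.yi, Lt.yi, Lt.xi, Lt.yi] (pair_rel hinv hr (by decide +kernel)) h
  · rcases brec_true h with h | h
    · rcases brec_true h with h | h
      · exact mRel_good (T := T) (by decide) [Lt.y, Lt.y, Lt.xi, Lt.y, Lt.y, Lt.x, Lt.y, Lt.y, Lt.y] [Lt.yi, Lt.xi, Lt.yi, Lt.yi, Lt.x, Lt.yi, Lt.yi, Lt.yi, Lt.xi, Lt.yi, Lt.yi, Lt.x] (pair_rel hinv hr (by decide +kernel)) h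
      · exact mRel_good (T := T) (by decide) [Lt.y, Lt.y, Lt.x, Lt.y, Lt.x, Lt.y, Lt.x, Lt.yi, Lt.xi, Lt.yi, Lt.xi, Lt.yi, Lt.yi, Lt.yi, Lt.z, Lt.y, Lt.y, Lt.y, Lt.x, Lt.y, Lt.x, Lt.y, Lt.x, Lt.yi, Lt.xi, Lt.yi, Lt.xi, Lt.yi, Lt.yi, Lt.yi, Lt.z, Lt.y, Lt.y, Lt.y, Lt.x, Lt.y, Lt.x] [Lt.yi, Lt.z, Lt.y, Lt.y, Lt.y, Lt.x, Lt.y, Lt.x, Lt.y, Lt.z, Lt.xi, Lt.yi] (pair_rel hinv hr (by decide +kernel)) h
    · rcases brec_true h with h | h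
      · exact mRel_good (T := T) (by decide) [Lt.y, Lt.x, Lt.y, Lt.x, Lt.y, Lt.y, Lt.x, Lt.yi, Lt.xi, Lt.xi, Lt.z, Lt.y, Lt.xi] [Lt.z, Lt.y, Lt.x, Lt.y, Lt.x, Lt.y, Lt.y] (pair_rel hinv hr (by decide +kernel)) h
      · rcases brec_true h with h | h
        · exact mRel_good (T := T) (by decide) [Lt.y, Lt.x, Lt.y, Lt.x] [Lt.xi, Lt.yi, Lt.xi, Lt.yi, Lt.xi, Lt.yi, Lt.xi, Lt.yi, Lt.xi, Lt.yi, Lt.xi, Lt.yi] (pair_rel hinv hr (by decide +kernel)) h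
        · exact mRel_good (T := T) (by decide) [Lt.xi, Lt.y, Lt.y, Lt.x, Lt.y, Lt.y, Lt.y, Lt.xi, Lt.y, Lt.y, Lt.x, Lt.y] [Lt.yi, Lt.yi, Lt.yi, Lt.xi, Lt.yi, Lt.yi, Lt.x, Lt.yi, Lt.yi] (pair_rel hinv hr (by decide +kernel)) h
theorem dM_32_s (hinv : ∀ x, g (inv x) = (g x)⁻¹) (hr : ∀ r ∈ rels, (r.map g).prod = 1) (j z1 z2 u : ℕ) (h : dM_32 j z1 z2 u = true) : GoodM (fa g) T MG M (cP g H) u := by
  unfold dM_32 at h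
  rcases brec_true h with h | h
  · rcases brec_true h with h | h
    · rcases brec_true h with h | h
      · exact mRel_good (T := T) (by decide) [Lt.yi, Lt.z, Lt.y, Lt.y, Lt.y, Lt.x, Lt.y, Lt.x, Lt.y, Lt.x, Lt.yi, Lt.xi, Lt.yi, Lt.xi, Lt.yi, Lt.yi, Lt.yi, Lt.z, Lt.y, Lt.y, Lt.y, Lt.x, Lt.y, Lt.x] [Lt.y, Lt.y, Lt.x, Lt.y, Lt.x, Lt.y, Lt.xi, Lt.yi, Lt.xi, Lt.yi, Lt.xi, Lt.yi, Lt.yi, Lt.yi, Lt.z, Lt.y, Lt.y, Lt.y, Lt.x, Lt.y, Lt.x, Lt.y, Lt.z, Lt.xi, Lt.yi] (pair_rel hinv hr (by decide +kernel)) h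
      · exact mRel_good (T := T) (by decide) [Lt.yi, Lt.yi, Lt.xi, Lt.yi] [Lt.y, Lt.xi, Lt.y, Lt.y, Lt.x, Lt.y, Lt.y, Lt.y, Lt.xi, Lt.y, Lt.y, Lt.x, Lt.y, Lt.y, Lt.y, Lt.xi, Lt.y] (pair_rel hinv hr (by decide +kernel)) h
    · rcases brec_true h with h | h
      · exact mRel_good (T := T) (by decide) [Lt.x, Lt.yi, Lt.xi, Lt.yi, Lt.xi, Lt.yi, Lt.yi, Lt.yi, Lt.z, Lt.y, Lt.y, Lt.y, Lt.x, Lt.y, Lt.x, Lt.y, Lt.x, Lt.yi, Lt.xi, Lt.yi, Lt.xi, Lt.yi, Lt.yi, Lt.yi, Lt.z, Lt.y, Lt.y, Lt.y, Lt.x, Lt.y, Lt.x, Lt.y, Lt.x, Lt.z, Lt.yi, Lt.xi] [Lt.yi, Lt.xi, Lt.yi, Lt.xi, Lt.yi, Lt.yi, Lt.yi, Lt.z, Lt.y, Lt.y, Lt.y, Lt.x, Lt.y] (pair_rel hinv hr (by decide +kernel)) h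
      · rcases brec_true h with h | h
        · exact mRel_good (T := T) (by decide) [Lt.y, Lt.y, Lt.y, Lt.xi, Lt.y, Lt.y, Lt.x, Lt.y, Lt.y, Lt.y, Lt.xi, Lt.y] [Lt.xi, Lt.yi, Lt.yi, Lt.x, Lt.yi, Lt.yi, Lt.yi, Lt.xi, Lt.yi] (pair_rel hinv hr (by decide +kernel)) h
        · exact mRel_good (T := T) (by decide) [Lt.y, Lt.y, Lt.x, Lt.y, Lt.y, Lt.y, Lt.xi, Lt.y, Lt.y, Lt.x, Lt.y, Lt.y, Lt.y, Lt.xi, Lt.y, Lt.y, Lt.x, Lt.y] [Lt.x, Lt.yi, Lt.yi] (pair_rel hinv hr (by decide +kernel)) h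
  · rcases brec_true h with h | h
    · rcases brec_true h with h | h
      · exact mRel_good (T := T) (by decide) [Lt.y, Lt.y, Lt.xi, Lt.y, Lt.y, Lt.x, Lt.y, Lt.y, Lt.y, Lt.xi, Lt.y, Lt.y, Lt.x, Lt.y, Lt.y, Lt.y, Lt.xi, Lt.y, Lt.y, Lt.x] [Lt.yi] (pair_rel hinv hr (by decide +kernel)) h
      · exact mRel_good (T := T) (by decide) [Lt.xi, Lt.yi, Lt.yi, Lt.x, Lt.yi, Lt.yi, Lt.yi, Lt.xi] [Lt.y, Lt.y, Lt.y, Lt.xi, Lt.y, Lt.y, Lt.x, Lt.y, Lt.y, Lt.y, Lt.xi, Lt.y, Lt.y] (pair_rel hinv hr (by decide +kernel)) h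
    · rcases brec_true h with h | h
      · exact mRel_good (T := T) (by decide) [Lt.y, Lt.y, Lt.y, Lt.xi, Lt.y, Lt.y, Lt.x, Lt.y, Lt.y, Lt.y, Lt.xi, Lt.y, Lt.y, Lt.x, Lt.y, Lt.y, Lt.y, Lt.xi, Lt.y, Lt.y, Lt.x] [] (pair_rel hinv hr (by decide +kernel)) h
      · rcases brec_true h with h | h
        · exact mRel_good (T := T) (by decide) [Lt.yi, Lt.yi, Lt.x, Lt.yi, Lt.yi, Lt.yi, Lt.xi, Lt.yi] [Lt.x, Lt.y, Lt.y, Lt.y, Lt.xi, Lt.y, Lt.y, Lt.x, Lt.y, Lt.y, Lt.y, Lt.xi, Lt.y] (pair_rel hinv hr (by decide +kernel)) h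
        · exact mRel_good (T := T) (by decide) [Lt.yi, Lt.yi, Lt.x] [Lt.x, Lt.y, Lt.y, Lt.y, Lt.xi, Lt.y, Lt.y, Lt.x, Lt.y, Lt.y, Lt.y, Lt.xi, Lt.y, Lt.y, Lt.x, Lt.y, Lt.y, Lt.y] (pair_rel hinv hr (by decide +kernel)) h
theorem dM_33_s (hinv : ∀ x, g (inv x) = (g x)⁻¹) (hr : ∀ r ∈ rels, (r.map g).prod = 1) (j z1 z2 u : ℕ) (h : dM_33 j z1 z2 u = true) : GoodM (fa g) T MG M (cP g H) u := by
  unfold dM_33 at h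
  rcases brec_true h with h | h
  · exact dM_31_s hinv hr j z1 z2 u h
  · exact dM_32_s hinv hr j z1 z2 u h
theorem dM_34_s (hinv : ∀ x, g (inv x) = (g x)⁻¹) (hr : ∀ r ∈ rels, (r.map g).prod = 1) (j z1 z2 u : ℕ) (h : dM_34 j z1 z2 u = true) : GoodM (fa g) T MG M (cP g H) u := by
  unfold dM_34 at h
  rcases brec_true h with h | h
  · rcases brec_true h with h | h
    · rcases brec_true h with h | h
      · exact mRel_good (T := T) (by decide) [Lt.yi, Lt.xi, Lt.yi, Lt.xi, Lt.yi, Lt.yi, Lt.yi, Lt.xi, Lt.yi, Lt.xi, Lt.yi, Lt.yi, Lt.yi, Lt.xi, Lt.yi, Lt.xi, Lt.yi, Lt.yi, Lt.yi] [Lt.y, Lt.y, Lt.x, Lt.y, Lt.x] (pair_rel hinv hr (by decide +kernel)) h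
      · exact mRel_good (T := T) (by decide) [Lt.yi, Lt.yi, Lt.z, Lt.y, Lt.y, Lt.y, Lt.x, Lt.y, Lt.x, Lt.y, Lt.x, Lt.z, Lt.yi, Lt.xi] [Lt.y, Lt.x, Lt.y, Lt.x, Lt.y, Lt.xi, Lt.yi, Lt.xi, Lt.yi, Lt.xi, Lt.yi, Lt.yi, Lt.yi, Lt.z, Lt.y, Lt.y, Lt.y, Lt.x, Lt.y, Lt.x, Lt.y, Lt.xi, Lt.yi, Lt.xi, Lt.yi, Lt.xi, Lt.yi, Lt.yi, Lt.yi, Lt.z, Lt.y, Lt.y, Lt.y, Lt.x, Lt.y] (pair_rel hinv hr (by decide +kernel)) h
    · rcases brec_true h with h | h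
      · exact mRel_good (T := T) (by decide) [Lt.xi, Lt.yi, Lt.yi, Lt.yi, Lt.xi, Lt.yi, Lt.xi, Lt.yi, Lt.yi, Lt.yi, Lt.xi, Lt.yi, Lt.xi, Lt.yi, Lt.yi, Lt.yi] [Lt.y, Lt.x, Lt.y, Lt.y, Lt.y, Lt.x, Lt.y, Lt.x] (pair_rel hinv hr (by decide +kernel)) h
      · rcases brec_true h with h | h
        · exact mRel_good (T := T) (by decide) [Lt.yi, Lt.yi, Lt.xi, Lt.yi, Lt.xi, Lt.yi, Lt.yi, Lt.yi, Lt.xi, Lt.yi, Lt.xi] [Lt.y, Lt.x, Lt.y, Lt.x, Lt.y, Lt.y, Lt.y, Lt.x, Lt.y, Lt.x, Lt.y, Lt.y, Lt.y] (pair_rel hinv hr (by decide +kernel)) h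
        · exact mRel_good (T := T) (by decide) [Lt.y, Lt.x, Lt.y, Lt.x, Lt.y, Lt.y, Lt.y, Lt.x, Lt.y, Lt.x, Lt.y, Lt.y, Lt.y, Lt.x, Lt.y, Lt.x] [Lt.yi, Lt.yi, Lt.xi, Lt.yi, Lt.xi, Lt.yi, Lt.yi, Lt.yi] (pair_rel hinv hr (by decide +kernel)) h
  · rcases brec_true h with h | h
    · rcases brec_true h with h | h
      · exact mRel_good (T := T) (by decide) [Lt.yi, Lt.xi, Lt.yi, Lt.z, Lt.y, Lt.x, Lt.y, Lt.x, Lt.y, Lt.y, Lt.x, Lt.yi, Lt.xi, Lt.xi, Lt.z, Lt.y, Lt.xi] [Lt.x, Lt.y, Lt.y] (pair_rel hinv hr (by decide +kernel)) h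
      · exact mRel_good (T := T) (by decide) [Lt.y, Lt.x, Lt.y, Lt.x, Lt.y, Lt.x, Lt.yi, Lt.xi, Lt.yi, Lt.xi, Lt.yi, Lt.yi, Lt.yi, Lt.z, Lt.y, Lt.y, Lt.y, Lt.x, Lt.y, Lt.x, Lt.y, Lt.x, Lt.yi, Lt.xi, Lt.yi, Lt.xi, Lt.yi, Lt.yi, Lt.yi, Lt.z, Lt.y, Lt.y, Lt.y, Lt.x, Lt.y, Lt.x] [Lt.yi, Lt.yi, Lt.z, Lt.y, Lt.y, Lt.y, Lt.x, Lt.y, Lt.x, Lt.y, Lt.z, Lt.xi, Lt.yi] (pair_rel hinv hr (by decide +kernel)) h
    · rcases brec_true h with h | h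
      · exact mRel_good (T := T) (by decide) [Lt.yi, Lt.yi, Lt.xi, Lt.yi, Lt.xi] [Lt.x, Lt.yi, Lt.z, Lt.x, Lt.x, Lt.y, Lt.xi, Lt.yi, Lt.yi, Lt.xi, Lt.yi, Lt.xi, Lt.yi, Lt.z, Lt.y] (pair_rel hinv hr (by decide +kernel)) h
      · rcases brec_true h with h | h
        · exact mRel_good (T := T) (by decide) [Lt.y, Lt.xi, Lt.yi, Lt.yi, Lt.xi, Lt.yi] [Lt.z, Lt.x, Lt.x, Lt.y, Lt.xi, Lt.yi, Lt.yi, Lt.xi, Lt.yi, Lt.xi, Lt.yi, Lt.z, Lt.y, Lt.x] (pair_rel hinv hr (by decide +kernel)) h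
        · exact mRel_good (T := T) (by decide) [Lt.yi, Lt.yi, Lt.xi, Lt.yi, Lt.xi, Lt.yi, Lt.yi, Lt.yi, Lt.xi, Lt.yi, Lt.xi, Lt.yi, Lt.yi, Lt.yi, Lt.xi, Lt.yi] [Lt.y, Lt.x, Lt.y, Lt.x, Lt.y, Lt.y, Lt.y, Lt.x] (pair_rel hinv hr (by decide +kernel)) h
theorem dM_35_s (hinv : ∀ x, g (inv x) = (g x)⁻¹) (hr : ∀ r ∈ rels, (r.map g).prod = 1) (j z1 z2 u : ℕ) (h : dM_35 j z1 z2 u = true) : GoodM (fa g) T MG M (cP g H) u := by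
  unfold dM_35 at h
  rcases brec_true h with h | h
  · rcases brec_true h with h | h
    · rcases brec_true h with h | h
      · exact mRel_good (T := T) (by decide) [Lt.yi, Lt.yi, Lt.yi, Lt.xi, Lt.yi] [Lt.xi, Lt.y, Lt.y, Lt.x, Lt.y, Lt.y, Lt.y, Lt.xi, Lt.y, Lt.y, Lt.x, Lt.y, Lt.y, Lt.y, Lt.xi, Lt.y] (pair_rel hinv hr (by decide +kernel)) h
      · exact mRel_good (T := T) (by decide) [Lt.y, Lt.x, Lt.z, Lt.yi, Lt.xi, Lt.yi, Lt.xi, Lt.yi, Lt.yi, Lt.yi, Lt.z, Lt.y, Lt.y, Lt.y, Lt.x, Lt.y, Lt.x] [Lt.xi, Lt.yi, Lt.xi, Lt.yi, Lt.yi, Lt.yi, Lt.z, Lt.y, Lt.y, Lt.y, Lt.x, Lt.y, Lt.x, Lt.y, Lt.xi, Lt.yi, Lt.xi, Lt.yi, Lt.xi, Lt.yi, Lt.yi, Lt.yi, Lt.z, Lt.y, Lt.y, Lt.y, Lt.x, Lt.y, Lt.x, Lt.y, Lt.xi, Lt.yi] (pair_rel hinv hr (by decide +kernel)) h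
    · rcases brec_true h with h | h
      · exact mRel_good (T := T) (by decide) [Lt.y, Lt.y, Lt.y, Lt.x, Lt.y, Lt.x, Lt.y, Lt.x, Lt.z, Lt.yi, Lt.xi, Lt.yi, Lt.xi, Lt.yi, Lt.yi, Lt.yi, Lt.z, Lt.y, Lt.y, Lt.y, Lt.x, Lt.y, Lt.x] [Lt.z, Lt.y, Lt.y, Lt.y, Lt.x, Lt.y, Lt.x, Lt.y, Lt.xi, Lt.yi, Lt.xi, Lt.yi, Lt.xi, Lt.yi, Lt.yi, Lt.yi, Lt.z, Lt.y, Lt.y, Lt.y, Lt.x, Lt.y, Lt.x, Lt.y, Lt.xi, Lt.yi] (pair_rel hinv hr (by decide +kernel)) h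
      · rcases brec_true h with h | h
        · exact mRel_good (T := T) (by decide) [Lt.yi, Lt.yi, Lt.yi, Lt.xi, Lt.yi, Lt.yi, Lt.x, Lt.yi] [Lt.xi, Lt.y, Lt.y, Lt.x, Lt.y, Lt.y, Lt.y, Lt.xi, Lt.y, Lt.y, Lt.x, Lt.y, Lt.y] (pair_rel hinv hr (by decide +kernel)) h
        · exact mRel_good (T := T) (by decide) [Lt.xi, Lt.yi, Lt.yi, Lt.yi, Lt.xi, Lt.yi, Lt.xi, Lt.yi, Lt.yi, Lt.yi, Lt.xi, Lt.yi, Lt.xi, Lt.yi, Lt.yi, Lt.yi, Lt.xi, Lt.yi, Lt.xi] [Lt.y, Lt.x, Lt.y, Lt.y, Lt.y] (pair_rel hinv hr (by decide +kernel)) h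
  · rcases brec_true h with h | h
    · rcases brec_true h with h | h
      · exact mRel_good (T := T) (by decide) [Lt.y, Lt.x, Lt.y, Lt.y, Lt.y] [Lt.yi, Lt.x, Lt.yi, Lt.yi, Lt.yi, Lt.xi, Lt.yi, Lt.yi, Lt.x, Lt.yi, Lt.yi, Lt.yi, Lt.xi, Lt.yi, Lt.yi, Lt.x] (pair_rel hinv hr (by decide +kernel)) h
      · rcases brec_true h with h | h
        · exact mRel_good (T := T) (by decide) [Lt.xi, Lt.yi, Lt.xi, Lt.yi, Lt.z, Lt.y, Lt.x, Lt.y, Lt.x, Lt.y, Lt.y] [Lt.y, Lt.y, Lt.x, Lt.yi, Lt.z, Lt.x, Lt.x, Lt.y, Lt.xi] (pair_rel hinv hr (by decide +kernel)) h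
        · exact mRel_good (T := T) (by decide) [Lt.yi, Lt.x, Lt.yi, Lt.yi, Lt.yi, Lt.xi, Lt.yi] [Lt.y, Lt.x, Lt.y, Lt.y, Lt.y, Lt.xi, Lt.y, Lt.y, Lt.x, Lt.y, Lt.y, Lt.y, Lt.xi, Lt.y] (pair_rel hinv hr (by decide +kernel)) h
    · rcases brec_true h with h | h
      · exact mRel_good (T := T) (by decide) [Lt.yi, Lt.x, Lt.yi, Lt.yi, Lt.yi, Lt.xi, Lt.yi, Lt.yi, Lt.x, Lt.yi] [Lt.y, Lt.x, Lt.y, Lt.y, Lt.y, Lt.xi, Lt.y, Lt.y, Lt.x, Lt.y, Lt.y] (pair_rel hinv hr (by decide +kernel)) h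
      · rcases brec_true h with h | h
        · exact mRel_good (T := T) (by decide) [Lt.xi, Lt.yi, Lt.xi, Lt.yi, Lt.z, Lt.y, Lt.x] [Lt.y, Lt.y, Lt.x, Lt.yi, Lt.z, Lt.x, Lt.x, Lt.y, Lt.xi, Lt.yi, Lt.yi, Lt.xi, Lt.yi] (pair_rel hinv hr (by decide +kernel)) h
        · exact mRel_good (T := T) (by decide) [Lt.x, Lt.y, Lt.x, Lt.yi, Lt.xi, Lt.yi, Lt.xi, Lt.yi, Lt.yi, Lt.yi, Lt.z, Lt.y, Lt.y, Lt.y, Lt.x, Lt.y, Lt.x, Lt.y, Lt.x, Lt.z, Lt.yi, Lt.xi] [Lt.yi, Lt.xi, Lt.yi, Lt.yi, Lt.yi, Lt.z, Lt.y, Lt.y, Lt.y, Lt.x, Lt.y, Lt.x, Lt.y, Lt.xi, Lt.yi, Lt.xi, Lt.yi, Lt.xi, Lt.yi, Lt.yi, Lt.yi, Lt.z, Lt.y, Lt.y, Lt.y, Lt.x, Lt.y] (pair_rel hinv hr (by decide +kernel)) h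
theorem dM_36_s (hinv : ∀ x, g (inv x) = (g x)⁻¹) (hr : ∀ r ∈ rels, (r.map g).prod = 1) (j z1 z2 u : ℕ) (h : dM_36 j z1 z2 u = true) : GoodM (fa g) T MG M (cP g H) u := by
  unfold dM_36 at h
  rcases brec_true h with h | h
  · exact dM_34_s hinv hr j z1 z2 u h
  · exact dM_35_s hinv hr j z1 z2 u h
theorem dM_37_s (hinv : ∀ x, g (inv x) = (g x)⁻¹) (hr : ∀ r ∈ rels, (r.map g).prod = 1) (j z1 z2 u : ℕ) (h : dM_37 j z1 z2 u = true) : GoodM (fa g) T MG M (cP g H) u := by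
  unfold dM_37 at h
  rcases brec_true h with h | h
  · exact dM_33_s hinv hr j z1 z2 u h
  · exact dM_36_s hinv hr j z1 z2 u h
theorem dM_38_s (hinv : ∀ x, g (inv x) = (g x)⁻¹) (hr : ∀ r ∈ rels, (r.map g).prod = 1) (j z1 z2 u : ℕ) (h : dM_38 j z1 z2 u = true) : GoodM (fa g) T MG M (cP g H) u := by
  unfold dM_38 at h
  rcases brec_true h with h | h
  · rcases brec_true h with h | h
    · rcases brec_true h with h | h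
      · exact mRel_good (T := T) (by decide) [Lt.yi, Lt.yi, Lt.z, Lt.y, Lt.y, Lt.y, Lt.x, Lt.y, Lt.x, Lt.y, Lt.xi, Lt.yi, Lt.xi, Lt.yi, Lt.xi, Lt.yi, Lt.yi, Lt.yi, Lt.z, Lt.y, Lt.y, Lt.y, Lt.x, Lt.y, Lt.x, Lt.y, Lt.xi, Lt.yi, Lt.xi, Lt.yi, Lt.xi] [Lt.y, Lt.x, Lt.y, Lt.x, Lt.y, Lt.x, Lt.z, Lt.yi, Lt.xi, Lt.yi, Lt.xi, Lt.yi, Lt.yi, Lt.yi, Lt.z, Lt.y, Lt.y, Lt.y] (pair_rel hinv hr (by decide +kernel)) h
      · exact mRel_good (T := T) (by decide) [Lt.yi, Lt.yi, Lt.z, Lt.y, Lt.y, Lt.y, Lt.x, Lt.y, Lt.x, Lt.y, Lt.x, Lt.yi, Lt.xi, Lt.yi, Lt.xi, Lt.yi, Lt.yi, Lt.yi, Lt.z, Lt.y, Lt.y, Lt.y] [Lt.y, Lt.x, Lt.y, Lt.x, Lt.y, Lt.xi, Lt.yi, Lt.xi, Lt.yi, Lt.xi, Lt.yi, Lt.yi, Lt.yi, Lt.z, Lt.y, Lt.y, Lt.y, Lt.x, Lt.y, Lt.x, Lt.y, Lt.z, Lt.xi, Lt.yi, Lt.xi, Lt.yi, Lt.xi] (pair_rel hinv hr (by decide +kernel)) h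
    · rcases brec_true h with h | h
      · exact mRel_good (T := T) (by decide) [Lt.y, Lt.x, Lt.y, Lt.x, Lt.y, Lt.x, Lt.z, Lt.yi, Lt.xi, Lt.yi, Lt.xi, Lt.yi, Lt.yi, Lt.yi, Lt.z, Lt.y, Lt.y, Lt.y, Lt.x] [Lt.yi, Lt.yi, Lt.z, Lt.y, Lt.y, Lt.y, Lt.x, Lt.y, Lt.x, Lt.y, Lt.xi, Lt.yi, Lt.xi, Lt.yi, Lt.xi, Lt.yi, Lt.yi, Lt.yi, Lt.z, Lt.y, Lt.y, Lt.y, Lt.x, Lt.y, Lt.x, Lt.y, Lt.xi, Lt.yi, Lt.xi, Lt.yi] (pair_rel hinv hr (by decide +kernel)) h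
      · rcases brec_true h with h | h
        · exact mRel_good (T := T) (by decide) [Lt.x, Lt.x, Lt.y, Lt.xi, Lt.yi, Lt.yi, Lt.xi, Lt.yi, Lt.xi, Lt.yi, Lt.z, Lt.y, Lt.x] [Lt.z, Lt.y, Lt.xi, Lt.yi, Lt.yi, Lt.xi, Lt.yi] (pair_rel hinv hr (by decide +kernel)) h
        · exact mRel_good (T := T) (by decide) [Lt.y, Lt.x, Lt.yi, Lt.xi, Lt.yi, Lt.xi, Lt.yi, Lt.yi, Lt.yi, Lt.z, Lt.y, Lt.y, Lt.y, Lt.x, Lt.y, Lt.x, Lt.y, Lt.x, Lt.z, Lt.yi, Lt.xi, Lt.yi, Lt.xi, Lt.yi, Lt.yi, Lt.yi] [Lt.xi, Lt.yi, Lt.xi, Lt.yi, Lt.yi, Lt.yi, Lt.z, Lt.y, Lt.y, Lt.y, Lt.x, Lt.y, Lt.x, Lt.y, Lt.xi, Lt.yi, Lt.xi, Lt.yi, Lt.xi, Lt.yi, Lt.yi, Lt.yi, Lt.z] (pair_rel hinv hr (by decide +kernel)) h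
  · rcases brec_true h with h | h
    · rcases brec_true h with h | h
      · exact mRel_good (T := T) (by decide) [Lt.y, Lt.x, Lt.yi, Lt.xi, Lt.xi, Lt.z, Lt.y, Lt.xi, Lt.yi, Lt.yi, Lt.xi, Lt.yi, Lt.xi] [Lt.yi, Lt.xi, Lt.yi, Lt.xi, Lt.yi, Lt.z, Lt.y] (pair_rel hinv hr (by decide +kernel)) h
      · exact mRel_good (T := T) (by decide) [Lt.yi, Lt.z, Lt.y, Lt.y, Lt.y, Lt.x, Lt.y, Lt.x, Lt.y, Lt.x, Lt.z, Lt.yi, Lt.xi, Lt.yi, Lt.xi] [Lt.y, Lt.y, Lt.x, Lt.y, Lt.x, Lt.y, Lt.xi, Lt.yi, Lt.xi, Lt.yi, Lt.xi, Lt.yi, Lt.yi, Lt.yi, Lt.z, Lt.y, Lt.y, Lt.y, Lt.x, Lt.y, Lt.x, Lt.y, Lt.xi, Lt.yi, Lt.xi, Lt.yi, Lt.xi, Lt.yi, Lt.yi, Lt.yi, Lt.z, Lt.y, Lt.y, Lt.y] (pair_rel hinv hr (by decide +kernel)) h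
    · rcases brec_true h with h | h
      · exact mRel_good (T := T) (by decide) [Lt.x, Lt.y, Lt.xi, Lt.yi, Lt.yi, Lt.xi, Lt.yi, Lt.xi, Lt.yi, Lt.z, Lt.y, Lt.x] [Lt.xi, Lt.z, Lt.y, Lt.xi, Lt.yi, Lt.yi, Lt.xi, Lt.yi] (pair_rel hinv hr (by decide +kernel)) h
      · rcases brec_true h with h | h
        · exact mRel_good (T := T) (by decide) [Lt.y, Lt.x, Lt.y, Lt.x, Lt.z, Lt.yi, Lt.xi, Lt.yi, Lt.xi, Lt.yi, Lt.yi, Lt.yi, Lt.z, Lt.y, Lt.y, Lt.y, Lt.x, Lt.y, Lt.x, Lt.y, Lt.x] [Lt.xi, Lt.yi, Lt.yi, Lt.yi, Lt.z, Lt.y, Lt.y, Lt.y, Lt.x, Lt.y, Lt.x, Lt.y, Lt.xi, Lt.yi, Lt.xi, Lt.yi, Lt.xi, Lt.yi, Lt.yi, Lt.yi, Lt.z, Lt.y, Lt.y, Lt.y, Lt.x, Lt.y, Lt.x, Lt.y] (pair_rel hinv hr (by decide +kernel)) h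
        · exact mRel_good (T := T) (by decide) [Lt.yi, Lt.yi, Lt.z, Lt.y, Lt.y, Lt.y, Lt.x, Lt.y, Lt.x, Lt.y, Lt.x, Lt.z, Lt.yi] [Lt.y, Lt.x, Lt.y, Lt.x, Lt.y, Lt.xi, Lt.yi, Lt.xi, Lt.yi, Lt.xi, Lt.yi, Lt.yi, Lt.yi, Lt.z, Lt.y, Lt.y, Lt.y, Lt.x, Lt.y, Lt.x, Lt.y, Lt.xi, Lt.yi, Lt.xi, Lt.yi, Lt.xi, Lt.yi, Lt.yi, Lt.yi, Lt.z, Lt.y, Lt.y, Lt.y, Lt.x, Lt.y, Lt.x] (pair_rel hinv hr (by decide +kernel)) h
theorem dM_39_s (hinv : ∀ x, g (inv x) = (g x)⁻¹) (hr : ∀ r ∈ rels, (r.map g).prod = 1) (j z1 z2 u : ℕ) (h : dM_39 j z1 z2 u = true) : GoodM (fa g) T MG M (cP g H) u := by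
  unfold dM_39 at h
  rcases brec_true h with h | h
  · rcases brec_true h with h | h
    · rcases brec_true h with h | h
      · exact mRel_good (T := T) (by decide) [Lt.x, Lt.y, Lt.x, Lt.y, Lt.x, Lt.z, Lt.yi, Lt.xi, Lt.yi, Lt.xi, Lt.yi, Lt.yi, Lt.yi, Lt.z, Lt.y, Lt.y, Lt.y, Lt.x, Lt.y, Lt.x] [Lt.yi, Lt.yi, Lt.yi, Lt.z, Lt.y, Lt.y, Lt.y, Lt.x, Lt.y, Lt.x, Lt.y, Lt.xi, Lt.yi, Lt.xi, Lt.yi, Lt.xi, Lt.yi, Lt.yi, Lt.yi, Lt.z, Lt.y, Lt.y, Lt.y, Lt.x, Lt.y, Lt.x, Lt.y, Lt.xi, Lt.yi] (pair_rel hinv hr (by decide +kernel)) h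
      · exact mRel_good (T := T) (by decide) [Lt.y, Lt.y, Lt.x, Lt.yi, Lt.xi, Lt.xi, Lt.z, Lt.y, Lt.xi, Lt.yi, Lt.yi, Lt.xi, Lt.yi, Lt.xi] [Lt.xi, Lt.yi, Lt.xi, Lt.yi, Lt.z, Lt.y] (pair_rel hinv hr (by decide +kernel)) h
    · rcases brec_true h with h | h
      · exact mRel_good (T := T) (by decide) [Lt.yi, Lt.xi, Lt.yi, Lt.z, Lt.y, Lt.x] [Lt.x, Lt.y, Lt.y, Lt.x, Lt.yi, Lt.z, Lt.x, Lt.x, Lt.y, Lt.xi, Lt.yi, Lt.yi, Lt.xi, Lt.yi] (pair_rel hinv hr (by decide +kernel)) h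
      · rcases brec_true h with h | h
        · exact mRel_good (T := T) (by decide) [Lt.x, Lt.y, Lt.x, Lt.yi, Lt.xi, Lt.yi, Lt.xi, Lt.yi, Lt.yi, Lt.yi, Lt.z, Lt.y, Lt.y, Lt.y, Lt.x, Lt.y, Lt.x, Lt.y, Lt.x, Lt.yi, Lt.xi, Lt.yi, Lt.xi, Lt.yi, Lt.yi, Lt.yi, Lt.z, Lt.y, Lt.y, Lt.y, Lt.x, Lt.y, Lt.x, Lt.y, Lt.x, Lt.z, Lt.yi, Lt.xi, Lt.yi, Lt.xi, Lt.yi] [Lt.yi, Lt.xi, Lt.yi, Lt.yi, Lt.yi, Lt.z, Lt.y, Lt.y] (pair_rel hinv hr (by decide +kernel)) h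
        · exact mRel_good (T := T) (by decide) [Lt.y, Lt.x, Lt.y, Lt.x, Lt.y, Lt.y, Lt.y, Lt.x, Lt.y, Lt.x] [Lt.yi, Lt.yi, Lt.xi, Lt.yi, Lt.xi, Lt.yi, Lt.yi, Lt.yi, Lt.xi, Lt.yi, Lt.xi, Lt.yi, Lt.yi, Lt.yi] (pair_rel hinv hr (by decide +kernel)) h
  · rcases brec_true h with h | h
    · rcases brec_true h with h | h
      · exact mRel_good (T := T) (by decide) [Lt.yi, Lt.xi, Lt.yi, Lt.xi, Lt.yi, Lt.z, Lt.y, Lt.x] [Lt.y, Lt.x, Lt.yi, Lt.z, Lt.x, Lt.x, Lt.y, Lt.xi, Lt.yi, Lt.yi, Lt.xi, Lt.yi] (pair_rel hinv hr (by decide +kernel)) h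
      · rcases brec_true h with h | h
        · exact mRel_good (T := T) (by decide) [Lt.y, Lt.x] [Lt.xi, Lt.yi, Lt.xi, Lt.yi, Lt.xi, Lt.yi, Lt.xi, Lt.yi, Lt.xi, Lt.yi, Lt.xi, Lt.yi, Lt.xi, Lt.yi] (pair_rel hinv hr (by decide +kernel)) h
        · exact mRel_good (T := T) (by decide) [Lt.yi, Lt.yi, Lt.z, Lt.y, Lt.y, Lt.y, Lt.x, Lt.y, Lt.x, Lt.y, Lt.x, Lt.yi, Lt.xi, Lt.yi, Lt.xi, Lt.yi, Lt.yi, Lt.yi, Lt.z, Lt.y, Lt.y, Lt.y, Lt.x, Lt.y, Lt.x] [Lt.y, Lt.x, Lt.y, Lt.x, Lt.y, Lt.xi, Lt.yi, Lt.xi, Lt.yi, Lt.xi, Lt.yi, Lt.yi, Lt.yi, Lt.z, Lt.y, Lt.y, Lt.y, Lt.x, Lt.y, Lt.x, Lt.y, Lt.z, Lt.xi, Lt.yi] (pair_rel hinv hr (by decide +kernel)) h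
    · rcases brec_true h with h | h
      · exact mRel_good (T := T) (by decide) [Lt.yi, Lt.yi, Lt.xi] [Lt.y, Lt.xi, Lt.y, Lt.y, Lt.x, Lt.y, Lt.y, Lt.y, Lt.xi, Lt.y, Lt.y, Lt.x, Lt.y, Lt.y, Lt.y, Lt.xi, Lt.y, Lt.y] (pair_rel hinv hr (by decide +kernel)) h
      · rcases brec_true h with h | h
        · exact mRel_good (T := T) (by decide) [Lt.yi, Lt.xi, Lt.yi, Lt.xi, Lt.yi, Lt.z, Lt.y, Lt.x, Lt.y, Lt.x, Lt.y, Lt.y] [Lt.y, Lt.x, Lt.yi, Lt.z, Lt.x, Lt.x, Lt.y, Lt.xi] (pair_rel hinv hr (by decide +kernel)) h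
        · exact mRel_good (T := T) (by decide) [Lt.x, Lt.y, Lt.x, Lt.z, Lt.yi, Lt.xi, Lt.yi, Lt.xi, Lt.yi, Lt.yi, Lt.yi, Lt.z, Lt.y, Lt.y, Lt.y, Lt.x, Lt.y, Lt.x] [Lt.yi, Lt.xi, Lt.yi, Lt.yi, Lt.yi, Lt.z, Lt.y, Lt.y, Lt.y, Lt.x, Lt.y, Lt.x, Lt.y, Lt.xi, Lt.yi, Lt.xi, Lt.yi, Lt.xi, Lt.yi, Lt.yi, Lt.yi, Lt.z, Lt.y, Lt.y, Lt.y, Lt.x, Lt.y, Lt.x, Lt.y, Lt.xi, Lt.yi] (pair_rel hinv hr (by decide +kernel)) h
theorem dM_40_s (hinv : ∀ x, g (inv x) = (g x)⁻¹) (hr : ∀ r ∈ rels, (r.map g).prod = 1) (j z1 z2 u : ℕ) (h : dM_40 j z1 z2 u = true) : GoodM (fa g) T MG M (cP g H) u := by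
  unfold dM_40 at h
  rcases brec_true h with h | h
  · exact dM_38_s hinv hr j z1 z2 u h
  · exact dM_39_s hinv hr j z1 z2 u h
theorem dM_41_s (hinv : ∀ x, g (inv x) = (g x)⁻¹) (hr : ∀ r ∈ rels, (r.map g).prod = 1) (j z1 z2 u : ℕ) (h : dM_41 j z1 z2 u = true) : GoodM (fa g) T MG M (cP g H) u := by
  unfold dM_41 at h
  rcases brec_true h with h | h
  · rcases brec_true h with h | h
    · rcases brec_true h with h | h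
      · exact mRel_good (T := T) (by decide) [Lt.yi, Lt.yi, Lt.xi, Lt.yi, Lt.xi, Lt.yi, Lt.yi, Lt.yi, Lt.xi, Lt.yi, Lt.xi, Lt.yi, Lt.yi, Lt.yi] [Lt.y, Lt.x, Lt.y, Lt.x, Lt.y, Lt.y, Lt.y, Lt.x, Lt.y, Lt.x] (pair_rel hinv hr (by decide +kernel)) h
      · exact mRel_good (T := T) (by decide) [Lt.x, Lt.yi, Lt.xi, Lt.xi, Lt.z, Lt.y, Lt.xi, Lt.yi, Lt.yi, Lt.xi, Lt.yi, Lt.xi] [Lt.yi, Lt.yi, Lt.xi, Lt.yi, Lt.xi, Lt.yi, Lt.z, Lt.y] (pair_rel hinv hr (by decide +kernel)) h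
    · rcases brec_true h with h | h
      · exact mRel_good (T := T) (by decide) [Lt.yi, Lt.yi, Lt.xi, Lt.yi, Lt.xi, Lt.yi] [Lt.x, Lt.yi, Lt.z, Lt.x, Lt.x, Lt.y, Lt.xi, Lt.yi, Lt.yi, Lt.xi, Lt.yi, Lt.xi, Lt.yi, Lt.z] (pair_rel hinv hr (by decide +kernel)) h
      · rcases brec_true h with h | h
        · exact mRel_good (T := T) (by decide) [Lt.xi, Lt.y, Lt.y, Lt.x, Lt.y, Lt.y, Lt.y] [Lt.yi, Lt.yi, Lt.yi, Lt.xi, Lt.yi, Lt.yi, Lt.x, Lt.yi, Lt.yi, Lt.yi, Lt.xi, Lt.yi, Lt.yi, Lt.x] (pair_rel hinv hr (by decide +kernel)) h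
        · exact mRel_good (T := T) (by decide) [Lt.yi, Lt.yi, Lt.xi, Lt.yi, Lt.yi, Lt.x] [Lt.y, Lt.xi, Lt.y, Lt.y, Lt.x, Lt.y, Lt.y, Lt.y, Lt.xi, Lt.y, Lt.y, Lt.x, Lt.y, Lt.y, Lt.y] (pair_rel hinv hr (by decide +kernel)) h
  · rcases brec_true h with h | h
    · rcases brec_true h with h | h
      · exact mRel_good (T := T) (by decide) [Lt.x, Lt.y, Lt.y, Lt.x, Lt.yi, Lt.xi, Lt.xi] [Lt.yi, Lt.xi, Lt.yi, Lt.z, Lt.y, Lt.x, Lt.y, Lt.x, Lt.y, Lt.y, Lt.x, Lt.yi, Lt.z] (pair_rel hinv hr (by decide +kernel)) h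
      · exact mRel_good (T := T) (by decide) [Lt.yi, Lt.yi, Lt.yi, Lt.xi] [Lt.xi, Lt.y, Lt.y, Lt.x, Lt.y, Lt.y, Lt.y, Lt.xi, Lt.y, Lt.y, Lt.x, Lt.y, Lt.y, Lt.y, Lt.xi, Lt.y, Lt.y] (pair_rel hinv hr (by decide +kernel)) h
    · rcases brec_true h with h | h
      · exact mRel_good (T := T) (by decide) [Lt.yi, Lt.yi, Lt.yi, Lt.xi, Lt.yi, Lt.xi, Lt.yi, Lt.yi, Lt.yi] [Lt.x, Lt.y, Lt.x, Lt.y, Lt.y, Lt.y, Lt.x, Lt.y, Lt.x, Lt.y, Lt.y, Lt.y, Lt.x, Lt.y, Lt.x] (pair_rel hinv hr (by decide +kernel)) h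
      · rcases brec_true h with h | h
        · exact mRel_good (T := T) (by decide) [Lt.x, Lt.y, Lt.x, Lt.y, Lt.x, Lt.yi, Lt.xi, Lt.yi, Lt.xi, Lt.yi, Lt.yi, Lt.yi, Lt.z, Lt.y, Lt.y, Lt.y, Lt.x, Lt.y, Lt.x, Lt.y, Lt.x, Lt.z, Lt.yi, Lt.xi, Lt.yi, Lt.xi, Lt.yi, Lt.yi, Lt.yi] [Lt.yi, Lt.yi, Lt.yi, Lt.z, Lt.y, Lt.y, Lt.y, Lt.x, Lt.y, Lt.x, Lt.y, Lt.xi, Lt.yi, Lt.xi, Lt.yi, Lt.xi, Lt.yi, Lt.yi, Lt.yi, Lt.z] (pair_rel hinv hr (by decide +kernel)) h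
        · exact mRel_good (T := T) (by decide) [Lt.y, Lt.xi, Lt.yi, Lt.yi, Lt.xi, Lt.yi, Lt.xi, Lt.yi, Lt.z, Lt.y, Lt.x, Lt.y, Lt.x, Lt.y, Lt.y] [Lt.z, Lt.x, Lt.x, Lt.y, Lt.xi] (pair_rel hinv hr (by decide +kernel)) h
theorem dM_42_s (hinv : ∀ x, g (inv x) = (g x)⁻¹) (hr : ∀ r ∈ rels, (r.map g).prod = 1) (j z1 z2 u : ℕ) (h : dM_42 j z1 z2 u = true) : GoodM (fa g) T MG M (cP g H) u := by
  unfold dM_42 at h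
  rcases brec_true h with h | h
  · rcases brec_true h with h | h
    · rcases brec_true h with h | h
      · exact mRel_good (T := T) (by decide) [Lt.yi, Lt.x, Lt.yi, Lt.yi, Lt.yi, Lt.xi, Lt.yi, Lt.yi, Lt.x, Lt.yi, Lt.yi, Lt.yi] [Lt.y, Lt.x, Lt.y, Lt.y, Lt.y, Lt.xi, Lt.y, Lt.y, Lt.x] (pair_rel hinv hr (by decide +kernel)) h
      · exact mRel_good (T := T) (by decide) [Lt.x, Lt.y, Lt.xi, Lt.yi, Lt.yi, Lt.xi, Lt.yi, Lt.xi, Lt.yi, Lt.z, Lt.y, Lt.x, Lt.y, Lt.x, Lt.y, Lt.y] [Lt.xi, Lt.z, Lt.y, Lt.xi] (pair_rel hinv hr (by decide +kernel)) h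
    · rcases brec_true h with h | h
      · exact mRel_good (T := T) (by decide) [Lt.x, Lt.y, Lt.y, Lt.x, Lt.yi, Lt.xi, Lt.xi, Lt.z, Lt.y, Lt.xi, Lt.yi, Lt.yi, Lt.xi, Lt.yi, Lt.xi] [Lt.yi, Lt.xi, Lt.yi, Lt.z, Lt.y] (pair_rel hinv hr (by decide +kernel)) h
      · rcases brec_true h with h | h
        · exact mRel_good (T := T) (by decide) [Lt.y, Lt.y, Lt.x] [Lt.xi, Lt.yi, Lt.xi, Lt.yi, Lt.z, Lt.y, Lt.x, Lt.y, Lt.x, Lt.y, Lt.y, Lt.x, Lt.yi, Lt.z, Lt.x, Lt.x, Lt.y] (pair_rel hinv hr (by decide +kernel)) h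
        · exact mRel_good (T := T) (by decide) [Lt.x, Lt.yi, Lt.yi, Lt.yi, Lt.xi, Lt.yi, Lt.yi, Lt.x, Lt.yi, Lt.yi, Lt.yi] [Lt.y, Lt.y, Lt.x, Lt.y, Lt.y, Lt.y, Lt.xi, Lt.y, Lt.y, Lt.x] (pair_rel hinv hr (by decide +kernel)) h
  · rcases brec_true h with h | h
    · rcases brec_true h with h | h
      · exact mRel_good (T := T) (by decide) [Lt.y, Lt.y, Lt.y, Lt.xi, Lt.y, Lt.y, Lt.x, Lt.y, Lt.y, Lt.y, Lt.xi, Lt.y, Lt.y, Lt.x] [Lt.xi, Lt.yi, Lt.yi, Lt.x, Lt.yi, Lt.yi, Lt.yi] (pair_rel hinv hr (by decide +kernel)) h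
      · rcases brec_true h with h | h
        · exact mRel_good (T := T) (by decide) [Lt.y, Lt.x, Lt.y, Lt.x, Lt.y, Lt.y, Lt.x, Lt.yi, Lt.xi, Lt.xi, Lt.z, Lt.y, Lt.xi, Lt.yi, Lt.yi, Lt.xi, Lt.yi, Lt.xi] [Lt.z, Lt.y] (pair_rel hinv hr (by decide +kernel)) h
        · exact mRel_good (T := T) (by decide) [Lt.yi, Lt.yi, Lt.yi, Lt.xi, Lt.yi, Lt.yi, Lt.x, Lt.yi, Lt.yi, Lt.yi, Lt.xi, Lt.yi, Lt.yi, Lt.x, Lt.yi, Lt.yi, Lt.yi, Lt.xi, Lt.yi, Lt.yi] [Lt.xi] (pair_rel hinv hr (by decide +kernel)) h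
    · rcases brec_true h with h | h
      · exact mRel_good (T := T) (by decide) [Lt.x, Lt.y, Lt.y, Lt.y, Lt.xi, Lt.y, Lt.y, Lt.x, Lt.y, Lt.y, Lt.y, Lt.xi, Lt.y, Lt.y, Lt.x, Lt.y] [Lt.yi, Lt.yi, Lt.x, Lt.yi, Lt.yi] (pair_rel hinv hr (by decide +kernel)) h
      · rcases brec_true h with h | h
        · exact mRel_good (T := T) (by decide) [Lt.y, Lt.y, Lt.y] [Lt.yi, Lt.yi, Lt.yi] (pair_rel hinv hr (by decide +kernel)) h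
        · exact mRel_good (T := T) (by decide) [Lt.yi, Lt.xi, Lt.yi, Lt.yi, Lt.x, Lt.yi, Lt.yi, Lt.yi, Lt.xi, Lt.yi, Lt.yi, Lt.x] [Lt.y, Lt.y, Lt.xi, Lt.y, Lt.y, Lt.x, Lt.y, Lt.y, Lt.y] (pair_rel hinv hr (by decide +kernel)) h
theorem dM_43_s (hinv : ∀ x, g (inv x) = (g x)⁻¹) (hr : ∀ r ∈ rels, (r.map g).prod = 1) (j z1 z2 u : ℕ) (h : dM_43 j z1 z2 u = true) : GoodM (fa g) T MG M (cP g H) u := by
  unfold dM_43 at h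
  rcases brec_true h with h | h
  · exact dM_41_s hinv hr j z1 z2 u h
  · exact dM_42_s hinv hr j z1 z2 u h
theorem dM_44_s (hinv : ∀ x, g (inv x) = (g x)⁻¹) (hr : ∀ r ∈ rels, (r.map g).prod = 1) (j z1 z2 u : ℕ) (h : dM_44 j z1 z2 u = true) : GoodM (fa g) T MG M (cP g H) u := by
  unfold dM_44 at h
  rcases brec_true h with h | h
  · exact dM_40_s hinv hr j z1 z2 u h
  · exact dM_43_s hinv hr j z1 z2 u h
theorem dM_45_s (hinv : ∀ x, g (inv x) = (g x)⁻¹) (hr : ∀ r ∈ rels, (r.map g).prod = 1) (j z1 z2 u : ℕ) (h : dM_45 j z1 z2 u = true) : GoodM (fa g) T MG M (cP g H) u := by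
  unfold dM_45 at h
  rcases brec_true h with h | h
  · exact dM_37_s hinv hr j z1 z2 u h
  · exact dM_44_s hinv hr j z1 z2 u h
theorem dM_46_s (hinv : ∀ x, g (inv x) = (g x)⁻¹) (hr : ∀ r ∈ rels, (r.map g).prod = 1) (j z1 z2 u : ℕ) (h : dM_46 j z1 z2 u = true) : GoodM (fa g) T MG M (cP g H) u := by
  unfold dM_46 at h
  rcases brec_true h with h | h
  · exact dM_30_s hinv hr j z1 z2 u h
  · exact dM_45_s hinv hr j z1 z2 u h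
theorem dM_47_s (hinv : ∀ x, g (inv x) = (g x)⁻¹) (hr : ∀ r ∈ rels, (r.map g).prod = 1) (j z1 z2 u : ℕ) (h : dM_47 j z1 z2 u = true) : GoodM (fa g) T MG M (cP g H) u := by
  unfold dM_47 at h
  rcases brec_true h with h | h
  · exact dM_17_s hinv hr j z1 z2 u h
  · exact dM_46_s hinv hr j z1 z2 u h
theorem dM_48_s (hinv : ∀ x, g (inv x) = (g x)⁻¹) (hr : ∀ r ∈ rels, (r.map g).prod = 1) (j z1 z2 u : ℕ) (h : dM_48 j z1 z2 u = true) : GoodM (fa g) T MG M (cP g H) u := by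
  unfold dM_48 at h
  rcases brec_true h with h | h
  · exact dM_4_s hinv hr j z1 z2 u h
  · exact dM_47_s hinv hr j z1 z2 u h
theorem dM_49_s (hinv : ∀ x, g (inv x) = (g x)⁻¹) (hr : ∀ r ∈ rels, (r.map g).prod = 1) (j z1 z2 u : ℕ) (h : dM_49 j z1 z2 u = true) : GoodM (fa g) T MG M (cP g H) u := by
  unfold dM_49 at h
  rcases brec_true h with h | h
  · exact dM_3_s hinv hr j z1 z2 u h
  · exact dM_48_s hinv hr j z1 z2 u h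
theorem dM_50_s (hinv : ∀ x, g (inv x) = (g x)⁻¹) (hr : ∀ r ∈ rels, (r.map g).prod = 1) (j z1 z2 u : ℕ) (h : dM_50 j z1 z2 u = true) : GoodM (fa g) T MG M (cP g H) u := by
  unfold dM_50 at h
  rcases brec_true h with h | h
  · exact dM_2_s hinv hr j z1 z2 u h
  · exact dM_49_s hinv hr j z1 z2 u h
theorem dM_51_s (hinv : ∀ x, g (inv x) = (g x)⁻¹) (hr : ∀ r ∈ rels, (r.map g).prod = 1) (j z1 z2 u : ℕ) (h : dM_51 j z1 z2 u = true) : GoodM (fa g) T MG M (cP g H) u := by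
  unfold dM_51 at h
  rcases brec_true h with h | h
  · exact dM_1_s hinv hr j z1 z2 u h
  · exact dM_50_s hinv hr j z1 z2 u h
theorem dM_52_s (hinv : ∀ x, g (inv x) = (g x)⁻¹) (hr : ∀ r ∈ rels, (r.map g).prod = 1) (j z1 z2 u : ℕ) (h : dM_52 j z1 z2 u = true) : GoodM (fa g) T MG M (cP g H) u := by
  unfold dM_52 at h
  rcases brec_true h with h | h
  · exact dM_0_s hinv hr j z1 z2 u h
  · exact dM_51_s hinv hr j z1 z2 u h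
theorem sndM (hinv : ∀ x, g (inv x) = (g x)⁻¹) (hr : ∀ r ∈ rels, (r.map g).prod = 1) (u : ℕ) (h : chkM u = true) :
    MG u < A → MG u % M < u ∧ GoodM (fa g) T MG M (cP g H) u := by
  intro hA
  unfold chkM at h
  cases hb : Nat.ble A (MG u) with
  | true => exact absurd (le_of_ble hb) (by omega)
  | false =>
    rw [hb] at h
    obtain ⟨h1, h2⟩ := band_eq_true.1 h
    exact ⟨le_of_ble h1, dM_52_s hinv hr _ _ _ _ h2⟩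
theorem sndN (hinv : ∀ x, g (inv x) = (g x)⁻¹) (hr : ∀ r ∈ rels, (r.map g).prod = 1) (hH : ∀ r ∈ subs, (r.map g).prod ∈ H)
    (u : ℕ) (hu : u < M) (h : chkP u = true) : (∀ x, (T x u < A ∧ Good (fa g) T MG M (cP g H) x u) ∨ (A ≤ T x u ∧ MG u < A)) ∧ (MG u < A → MG u % M < u ∧ GoodM (fa g) T MG M (cP g H) u) := by
  unfold chkP at h
  cases hb : Nat.ble M u with
  | true => exact absurd (le_of_ble hb) (by omega)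
  | false =>
    rw [hb] at h
    change chkN u = true at h
    unfold chkN at h
    obtain ⟨h0, h⟩ := band_eq_true.1 h
    obtain ⟨h1, h⟩ := band_eq_true.1 h
    obtain ⟨h2, h⟩ := band_eq_true.1 h
    obtain ⟨h3, h⟩ := band_eq_true.1 h
    obtain ⟨h4, h⟩ := band_eq_true.1 h
    refine ⟨?_, sndM hinv hr u h⟩
    intro x
    cases x
    · exact snc_x hinv hr hH _ u hu h0
    · exact snc_xi hinv hr hH _ u hu h1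
    · exact snc_y hinv hr hH _ u hu h2
    · exact snc_yi hinv hr hH _ u hu h3
    · exact snc_z hinv hr hH _ u hu h4
theorem final (hinv : ∀ x, g (inv x) = (g x)⁻¹) (hr : ∀ r ∈ rels, (r.map g).prod = 1) (hH : ∀ r ∈ subs, (r.map g).prod ∈ H)
    (hall : ∀ u, u < M → chkP u = true) (hc : cntB liveP 15 0 = 352) :
    H.relIndex (Subgroup.closure (Set.range g)) ≤ 352 ∧ H.relIndex (Subgroup.closure (Set.range g)) ≠ 0 := by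
  have hn := fun u hu => sndN hinv hr hH u hu (hall u hu)
  have h1 : ∀ x u, u < M → T x u < A → Good (fa g) T MG M (cP g H) x u := by
    intro x u hu hx
    rcases (hn u hu).1 x with h | h
    · exact h.2
    · exact absurd h.1 (by omega)
  have h2 : ∀ u, u < M → MG u < A → GoodM (fa g) T MG M (cP g H) u := fun u hu h => ((hn u hu).2 h).2
  refine relIndex_le (M := M) (A := A) (T := T) (MG := MG) (c := cP g H) (by decide) cc_zero (sound_of_good h1 h2) ?_ ?_ ?_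
  · intro u hu h
    exact ((hn u hu).2 h).1
  · intro x u hu h
    rcases (hn u hu).1 x with h' | h'
    · exact h'.1
    · exact absurd h'.2 (by omega)
  · rw [← hc, ← cntB_spec]
    apply Finset.card_le_card
    intro u
    simp only [Finset.mem_filter, Finset.mem_Ico]
    rintro ⟨⟨_, h3⟩, h4⟩
    refine ⟨⟨Nat.zero_le _, lt_of_lt_of_le h3 (by decide)⟩, ?_⟩
    unfold liveP
    cases hb : Nat.ble M u with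
    | true => exact absurd (le_of_ble hb) (by omega)
    | false => exact h4
end
end H9.HN.TCPA
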